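import Groth.Agent.AVDeg.Torsion
import Groth.Agent.AgIsog.Kernel
import Groth.Agent.FieldPow.Main
import Groth.Prelude.Def_SGA7a
import Mathlib.AlgebraicGeometry.Morphisms.QuasiFinite
import Mathlib.AlgebraicGeometry.Artinian

/-!
# Finite étale subgroup schemes from Galois stable groups of torsion points
-/

set_option autoImplicit false
set_option backward.isDefEq.respectTransparency false
set_option linter.style.haveILetI false

universe u

open CategoryTheory CategoryTheory.Limits MonoidalCategory CartesianMonoidalCategory MonObj GrpObj AlgebraicGeometry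
open TopologicalSpace
open scoped CategoryTheory.Obj

noncomputable section

namespace Groth.Agent.AVQuot

variable {k Ω : Type u} [Field k] [Field Ω] [Algebra k Ω]

/-- Every point of a finite scheme lifts to a geometric point. -/
theorem exists_point_over [IsAlgClosed Ω] (Z : Over (Spec (CommRingCat.of k))) [IsFinite Z.hom] (z : Z.left) :
    ∃ w : SGA7.pt (K := k) Ω ⟶ Z, w.left (IsLocalRing.closedPoint Ω) = z := by
  have hc : IsClosed ({z} : Set Z.left) := by
    haveI : DiscreteTopology Z.left := by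
      haveI := IsLocallyArtinian.of_locallyQuasiFinite (f := Z.hom)
      infer_instance
    exact isClosed_discrete _
  obtain ⟨φ, hφ⟩ := Spec.map_surjective (Z.left.fromSpecResidueField z ≫ Z.hom)
  have hfin : IsFinite (Spec.map φ) := by
    rw [hφ]
    rw [isClosed_singleton_iff_isClosedImmersion] at hc
    infer_instance
  rw [IsFinite.SpecMap_iff] at hfin
  letI : Algebra k (Z.left.residueField z) := φ.hom.toAlgebra
  haveI : Module.Finite k (Z.left.residueField z) := hfin
  let σ : Z.left.residueField z →ₐ[k] Ω := IsAlgClosed.lift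
  refine ⟨Over.homMk (Spec.map (CommRingCat.ofHom σ.toRingHom) ≫ Z.left.fromSpecResidueField z) ?_,
    Scheme.fromSpecResidueField_apply z _⟩
  show (Spec.map (CommRingCat.ofHom σ.toRingHom) ≫ Z.left.fromSpecResidueField z) ≫ Z.hom = _
  rw [Category.assoc, ← hφ, ← Spec.map_comp]
  exact congrArg Spec.map (CommRingCat.hom_ext σ.comp_algebraMap)

/-- Geometric points over the same point are conjugate. -/
theorem exists_galAct_eq [IsAlgClosure k Ω] {Z : Over (Spec (CommRingCat.of k))} (a b : SGA7.pt (K := k) Ω ⟶ Z)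
    (h : a.left (IsLocalRing.closedPoint Ω) = b.left (IsLocalRing.closedPoint Ω)) :
    ∃ σ : Ω ≃ₐ[k] Ω, b = SGA7.galAct σ a := by
  obtain ⟨⟨z, φ⟩, hφ⟩ := (Scheme.SpecToEquivOfField Ω Z.left).symm.surjective a.left
  obtain ⟨⟨z', φ'⟩, hφ'⟩ := (Scheme.SpecToEquivOfField Ω Z.left).symm.surjective b.left
  change Spec.map φ ≫ Z.left.fromSpecResidueField z = a.left at hφ
  change Spec.map φ' ≫ Z.left.fromSpecResidueField z' = b.left at hφ'
  have hzz : z' = z := by
    rw [← hφ, ← hφ', Scheme.Hom.comp_apply, Scheme.Hom.comp_apply, Scheme.fromSpecResidueField_apply,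
      Scheme.fromSpecResidueField_apply] at h
    exact h.symm
  subst hzz
  obtain ⟨ψ, hψ⟩ := Spec.map_surjective (Z.left.fromSpecResidueField z' ≫ Z.hom)
  letI : Algebra k (Z.left.residueField z') := ψ.hom.toAlgebra
  have key : ∀ (χ : Z.left.residueField z' ⟶ CommRingCat.of Ω) (c : SGA7.pt (K := k) Ω ⟶ Z),
      Spec.map χ ≫ Z.left.fromSpecResidueField z' = c.left →
      ∀ r : k, χ.hom (algebraMap k (Z.left.residueField z') r) = algebraMap k Ω r := by
    intro χ c hχ r
    have e : ψ ≫ χ = CommRingCat.ofHom (algebraMap k Ω) := Spec.map_injective (by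
      rw [Spec.map_comp, hψ, ← Category.assoc, hχ]
      exact Over.w c)
    exact congr($e r)
  let s : Z.left.residueField z' →ₐ[k] Ω := { φ.hom with commutes' := key φ a hφ }
  let s' : Z.left.residueField z' →ₐ[k] Ω := { φ'.hom with commutes' := key φ' b hφ' }
  haveI : IsAlgClosed Ω := IsAlgClosure.isAlgClosed k
  haveI : Algebra.IsAlgebraic k Ω := IsAlgClosure.isAlgebraic
  haveI : Normal k Ω := IsAlgClosure.normal k Ω
  obtain ⟨τ, hτ⟩ : ∃ τ : Ω ≃ₐ[k] Ω, ∀ x, τ (s x) = s' x := by
    let χ : s.fieldRange ≃ₐ[k] s'.fieldRange :=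
      (AlgEquiv.ofInjectiveField s).symm.trans (AlgEquiv.ofInjectiveField s')
    refine ⟨χ.liftNormal Ω, fun x => ?_⟩
    have h := AlgEquiv.liftNormal_commutes χ Ω (AlgEquiv.ofInjectiveField s x)
    exact h.trans (congrArg (fun z : s'.fieldRange => (z : Ω))
      (congrArg (AlgEquiv.ofInjectiveField s') ((AlgEquiv.ofInjectiveField s).symm_apply_apply x)))
  refine ⟨τ, Over.OverMorphism.ext ?_⟩
  show b.left = Spec.map (CommRingCat.ofHom (τ : Ω →+* Ω)) ≫ a.left
  rw [← hφ, ← hφ', ← Spec.map_comp_assoc]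
  congr 2
  exact CommRingCat.hom_ext (RingHom.ext fun x => (hτ x).symm)

/-- A Galois stable group of torsion points comes from a finite étale subgroup scheme. -/
theorem exists_subgroup_scheme [IsAlgClosure k Ω] (X : Over (Spec (CommRingCat.of k))) [GrpObj X] [IsCommMonObj X]
    [IsProper X.hom] [GeometricallyIntegral X.hom] {n : ℕ} (hn : (n : k) ≠ 0)
    (K : Subgroup (SGA7.pt (K := k) Ω ⟶ X)) (hK : ∀ x ∈ K, x ^ n = 1)
    (hG : ∀ (σ : Ω ≃ₐ[k] Ω), ∀ x ∈ K, SGA7.galAct σ x ∈ K) :
    ∃ (N : Over (Spec (CommRingCat.of k))) (_ : GrpObj N) (u : N ⟶ X), IsMonHom u ∧ IsClosedImmersion u.left ∧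
      Mono u ∧ IsFinite N.hom ∧ Etale N.hom ∧ u ≫ (𝟙 X) ^ n = 1 ∧
      ∀ x : SGA7.pt (K := k) Ω ⟶ X, (∃ y, y ≫ u = x) ↔ x ∈ K := by
  haveI : IsAlgClosed Ω := IsAlgClosure.isAlgClosed k
  have hn0 : n ≠ 0 := fun h => hn (by rw [h, Nat.cast_zero])
  haveI hmon : IsMonHom (𝟙 X ^ n) := AVDeg.isMonHom_id_pow (A := X) n
  haveI hfin : IsFinite (𝟙 X ^ n).left := AVDeg.isFinite_pow_id (A := X) hn0
  haveI het : Etale (𝟙 X ^ n).left := by
    rw [← zpow_natCast]
    exact FieldPow.etale_pow X (n := (n : ℤ)) (by rw [Int.cast_natCast]; exact hn)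
  obtain ⟨M, _, i, hi, hmono, hsq, hmem⟩ := AgIsog.exists_kernel (𝟙 X ^ n)
  haveI : IsFinite M.hom := MorphismProperty.of_isPullback (P := @IsFinite) hsq hfin
  haveI : Etale M.hom := MorphismProperty.of_isPullback (P := @Etale) hsq het
  haveI : IsClosedImmersion i.left :=
    MorphismProperty.of_isPullback (P := @IsClosedImmersion) hsq.flip
      (isClosedImmersion_of_comp_eq_id X.hom η[X].left (Over.w η[X]))
  haveI : DiscreteTopology M.left := by
    haveI := IsLocallyArtinian.of_locallyQuasiFinite (f := M.hom)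
    infer_instance
  let s : Set M.left := {p | ∃ x : SGA7.pt (K := k) Ω ⟶ M, x ≫ i ∈ K ∧ x.left (IsLocalRing.closedPoint Ω) = p}
  let O : M.left.Opens := ⟨s, isOpen_discrete _⟩
  let N : Over (Spec (CommRingCat.of k)) := Over.mk (O.ι ≫ M.hom)
  let j : N ⟶ M := Over.homMk O.ι
  haveI : IsOpenImmersion j.left := inferInstanceAs (IsOpenImmersion O.ι)
  haveI : IsClosedImmersion j.left := by
    refine .of_isPreimmersion _ ?_
    exact isClosed_discrete _
  haveI : Mono j.left := inferInstance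
  haveI : Mono j := Over.mono_of_mono_left j
  haveI : Mono i := hmono
  have hmemK : ∀ x : SGA7.pt (K := k) Ω ⟶ M, x.left (IsLocalRing.closedPoint Ω) ∈ s → x ≫ i ∈ K := by
    rintro x ⟨x₀, hx₀, he⟩
    obtain ⟨σ, rfl⟩ := exists_galAct_eq x₀ x he
    have := hG σ _ hx₀
    rwa [SGA7.galAct, ← Category.assoc] at this
  have hlift : ∀ {T : Over (Spec (CommRingCat.of k))} (g : T ⟶ M), Set.range g.left ⊆ s →
      ∃ g' : T ⟶ N, g' ≫ j = g := by
    intro T g hg
    have hr : Set.range g.left ⊆ Set.range O.ι := by rwa [Scheme.Opens.range_ι]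
    refine ⟨Over.homMk (IsOpenImmersion.lift O.ι g.left hr) ?_, Over.OverMorphism.ext (IsOpenImmersion.lift_fac _ _ _)⟩
    show IsOpenImmersion.lift O.ι g.left hr ≫ O.ι ≫ M.hom = _
    rw [IsOpenImmersion.lift_fac_assoc, Over.w g]
  have hjs : ∀ z, j.left z ∈ s := fun z => by
    have : O.ι z ∈ (O : Set M.left) := by rw [← Scheme.Opens.range_ι]; exact Set.mem_range_self z
    exact this
  haveI : IsFinite N.hom := inferInstanceAs (IsFinite (j.left ≫ M.hom))
  haveI : Etale N.hom := inferInstanceAs (Etale (O.ι ≫ M.hom))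
  haveI : IsFinite (N ⊗ N).hom := inferInstanceAs (IsFinite (pullback.fst N.hom N.hom ≫ N.hom))
  have hptN : ∀ y : SGA7.pt (K := k) Ω ⟶ N, y ≫ j ≫ i ∈ K := fun y => by
    rw [← Category.assoc]; exact hmemK _ (by rw [Over.comp_left, Scheme.Hom.comp_apply]; exact hjs _)
  obtain ⟨e, he⟩ := hlift η[M] (by
    rintro _ ⟨t, rfl⟩
    refine ⟨1, by rw [MonObj.one_comp]; exact K.one_mem, ?_⟩
    rw [Hom.one_def, Over.comp_left, Scheme.Hom.comp_apply]
    exact congrArg _ (Subsingleton.elim (α := PrimeSpectrum k) _ _))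
  obtain ⟨m, hm⟩ := hlift ((fst N N ≫ j) * (snd N N ≫ j)) (by
    rintro _ ⟨z, rfl⟩
    obtain ⟨w, rfl⟩ := exists_point_over (Ω := Ω) (N ⊗ N) z
    refine ⟨w ≫ ((fst N N ≫ j) * (snd N N ≫ j)), ?_, by rw [Over.comp_left]; rfl⟩
    rw [MonObj.comp_mul, MonObj.mul_comp, ← Category.assoc w (fst N N) j, ← Category.assoc w (snd N N) j]
    exact K.mul_mem (by rw [Category.assoc]; exact hptN _) (by rw [Category.assoc]; exact hptN _))
  obtain ⟨v, hv⟩ := hlift j⁻¹ (by
    rintro _ ⟨z, rfl⟩
    obtain ⟨w, rfl⟩ := exists_point_over (Ω := Ω) N z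
    refine ⟨w ≫ j⁻¹, ?_, by rw [Over.comp_left]; rfl⟩
    rw [GrpObj.comp_inv, GrpObj.inv_comp, Category.assoc]
    exact K.inv_mem (hptN _))
  letI inst : GrpObj N :=
    { one := e
      mul := m
      one_mul := by
        rw [← cancel_mono j, Category.assoc, hm, MonObj.comp_mul, whiskerRight_fst_assoc, whiskerRight_snd_assoc,
          he, leftUnitor_hom]
        rw [toUnit_unique (fst (𝟙_ _) N) (toUnit _), ← Hom.one_def, _root_.one_mul]
      mul_one := by
        rw [← cancel_mono j, Category.assoc, hm, MonObj.comp_mul, whiskerLeft_fst_assoc, whiskerLeft_snd_assoc,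
          he, rightUnitor_hom]
        rw [toUnit_unique (snd N (𝟙_ _)) (toUnit _), ← Hom.one_def, _root_.mul_one]
      mul_assoc := by
        rw [← cancel_mono j]
        simp only [Category.assoc, hm, MonObj.comp_mul, whiskerRight_fst_assoc, whiskerRight_snd_assoc,
          whiskerLeft_fst_assoc, whiskerLeft_snd_assoc, associator_hom_fst_assoc, associator_hom_snd_fst_assoc,
          associator_hom_snd_snd_assoc, _root_.mul_assoc]
      inv := v
      left_inv := by
        rw [← cancel_mono j, Category.assoc, Category.assoc, hm, MonObj.comp_mul, lift_fst_assoc, lift_snd_assoc,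
          hv, he, Category.id_comp, inv_mul_cancel, Hom.one_def]
      right_inv := by
        rw [← cancel_mono j, Category.assoc, Category.assoc, hm, MonObj.comp_mul, lift_fst_assoc, lift_snd_assoc,
          hv, he, Category.id_comp, mul_inv_cancel, Hom.one_def] }
  haveI hjm : IsMonHom j :=
    { one_hom := he
      mul_hom := by
        show m ≫ j = _
        rw [hm, show μ[M] = fst M M * snd M M by rw [Hom.mul_def, lift_fst_snd, Category.id_comp],
          MonObj.comp_mul, tensorHom_fst, tensorHom_snd] }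
  haveI := hi
  refine ⟨N, inst, j ≫ i, inferInstance, ?_, mono_comp _ _, ‹_›, ‹_›, ?_, fun x => ⟨?_, fun hx => ?_⟩⟩
  · rw [Over.comp_left]; infer_instance
  · rw [Category.assoc, (hmem M i).1 ⟨𝟙 _, Category.id_comp _⟩, MonObj.comp_one]
  · rintro ⟨y, rfl⟩
    exact hptN y
  · obtain ⟨x', hx'⟩ := (hmem _ x).2 (by rw [MonObj.comp_pow, Category.comp_id, hK x hx])
    obtain ⟨y, hy⟩ := hlift x' (by
      rintro _ ⟨t, rfl⟩
      refine ⟨x', hx'.symm ▸ hx, congrArg _ (Subsingleton.elim (α := PrimeSpectrum Ω) _ _)⟩)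
    exact ⟨y, by rw [← Category.assoc, hy, hx']⟩

end Groth.Agent.AVQuot
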