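import Groth.Agent.AVQuot.SubQuot
import Groth.Agent.AVQuot.EtaleSub
import Groth.Agent.FppfSource.Scheme
import Groth.Agent.ClSubLib.Basic
import Groth.Agent.AgIsog.Simple
import Groth.Agent.CoverMap.Quot
import Groth.Agent.Rigid.Over
import Groth.Agent.Rigid.Integral

/-!
# Quotient of an abelian variety by a Galois stable group of torsion points
-/

set_option autoImplicit false
set_option backward.isDefEq.respectTransparency false
set_option linter.style.haveILetI false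

universe u

open CategoryTheory CategoryTheory.Limits MonoidalCategory CartesianMonoidalCategory MonObj GrpObj AlgebraicGeometry
open TopologicalSpace
open scoped CategoryTheory.Obj

noncomputable section

namespace Groth.Agent.AVQuot

variable {k Ω : Type u} [Field k] [Field Ω] [Algebra k Ω]

/-- The quotient abelian variety, with the quasi-inverse isogeny. -/
theorem exists_quot_av [IsAlgClosure k Ω] (X : Over (Spec (CommRingCat.of k))) [GrpObj X] [IsCommMonObj X]
    [IsProper X.hom] [GeometricallyIntegral X.hom] {n : ℕ} (hn : (n : k) ≠ 0)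
    (K : Subgroup (SGA7.pt (K := k) Ω ⟶ X)) (hK : ∀ x ∈ K, x ^ n = 1)
    (hG : ∀ (σ : Ω ≃ₐ[k] Ω), ∀ x ∈ K, SGA7.galAct σ x ∈ K) :
    ∃ (Y : Over (Spec (CommRingCat.of k))) (_ : GrpObj Y) (_ : IsCommMonObj Y) (_ : IsProper Y.hom)
      (_ : GeometricallyIntegral Y.hom) (q : X ⟶ Y) (v : Y ⟶ X), IsMonHom q ∧ IsMonHom v ∧
        q ≫ v = (𝟙 X) ^ n ∧ v ≫ q = (𝟙 Y) ^ n ∧
        ∀ x : SGA7.pt (K := k) Ω ⟶ X, x ≫ q = 1 ↔ x ∈ K := by
  obtain ⟨N, _, u, hu, hucl, humono, hNfin, hNet, hun, hpts⟩ := exists_subgroup_scheme X hn K hK hG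
  have hn0 : n ≠ 0 := fun h => hn (by rw [h, Nat.cast_zero])
  haveI : IsMonHom (𝟙 X ^ n) := AVDeg.isMonHom_id_pow (A := X) n
  haveI : IsFinite (𝟙 X ^ n).left := AVDeg.isFinite_pow_id (A := X) hn0
  obtain ⟨Y, _, hcomm, q, hq, hqfin, hqfl, hqp, hqs, hsq, hsep⟩ := exists_quot u (𝟙 X ^ n) hun
  haveI : IsSeparated Y.hom := hsep inferInstance
  haveI : LocallyOfFiniteType (q.left ≫ Y.hom) := by rw [Over.w q]; infer_instance
  haveI : LocallyOfFiniteType Y.hom := FppfSource.lft q.left Y.hom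
  haveI : IsProper (q.left ≫ Y.hom) := by rw [Over.w q]; infer_instance
  haveI hYp : IsProper Y.hom := ClSubLib.isProper_of_surjective q.left Y.hom
  haveI : IsIntegral X.left := GeometricallyIntegral.geometrically_isIntegral (f := X.hom) _ (𝟙 _) _
    (IsPullback.of_id_fst : IsPullback (𝟙 X.left) X.hom X.hom (𝟙 _))
  haveI : IsReduced Y.left := CoverMap.isReduced_of_covers ⟨_, q.left, 𝟙 _, Category.id_comp _, hqs, hqfl⟩
  haveI : IsSchemeTheoreticallyDominant q.left := .of_isDominant _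
  haveI hYi : GeometricallyIntegral Y.hom := AgIsog.geometricallyIntegral_of_schDom q
  have hqc : CoverMap.Covers q.left := CoverMap.covers_of_hcov ⟨_, q.left, 𝟙 _, Category.id_comp _, hqs, hqfl,
    fun V hV => ⟨q.left ⁻¹ᵁ V, (hV.preimage q.left).isCompact, Set.image_preimage_eq _ hqs.surj⟩⟩
  haveI : Epi q := CoverMap.epi_over hqc
  haveI : Epi (q ⊗ₘ q) := CoverMap.epi_over (CoverMap.covers_tensorHom hqc hqc)
  obtain ⟨v, hv, -⟩ := CoverMap.existsUnique_fac hqc (𝟙 X ^ n) fun T x y h => by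
    obtain ⟨c, hc⟩ := CoverMap.exists_of_eq hsq x y h
    rw [hc, MonObj.mul_comp, Category.assoc, hun, MonObj.comp_one, _root_.mul_one]
  have hvm : IsMonHom v := by
    refine ⟨?_, ?_⟩
    · rw [← IsMonHom.one_hom q, Category.assoc, hv, IsMonHom.one_hom]
    · rw [← cancel_epi (q ⊗ₘ q), ← Category.assoc, ← IsMonHom.mul_hom q, Category.assoc, hv,
        IsMonHom.mul_hom, ← Category.assoc]
      congr 1
      apply CartesianMonoidalCategory.hom_ext <;> simp [← hv]
  refine ⟨Y, inferInstance, hcomm, hYp, hYi, q, v, hq, hvm, hv, ?_, fun x => ⟨fun h => ?_, fun h => ?_⟩⟩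
  · rw [← cancel_epi q, ← Category.assoc, hv, MonObj.pow_comp, Category.id_comp, MonObj.comp_pow, Category.comp_id]
  · obtain ⟨c, hc⟩ := CoverMap.exists_of_eq hsq x 1 (by rw [h, MonObj.one_comp])
    exact (hpts x).1 ⟨c, by rw [hc, _root_.one_mul]⟩
  · obtain ⟨c, rfl⟩ := (hpts x).2 h
    have e := CoverMap.comp_mul_right hsq (1 : _ ⟶ X) c
    rw [_root_.one_mul, MonObj.one_comp] at e
    exact e

/-- An isomorphism of the underlying varieties gives an isomorphism of abelian varieties. -/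
theorem exists_monHom_iso {X Y : Over (Spec (CommRingCat.of k))} [GrpObj X] [GrpObj Y] [IsCommMonObj Y]
    [IsProper X.hom] [GeometricallyIntegral X.hom] [IsProper Y.hom] [GeometricallyIntegral Y.hom] (e : X ≅ Y) :
    ∃ f : X ≅ Y, IsMonHom f.hom ∧ IsMonHom f.inv := by
  let c : 𝟙_ (Over (Spec (CommRingCat.of k))) ⟶ Y := η[X] ≫ e.hom
  let f : X ⟶ Y := e.hom * (toUnit X ≫ c)⁻¹
  let g : Y ⟶ X := (𝟙 Y * (toUnit Y ≫ c)) ≫ e.inv
  have hu : η[X] ≫ f = η[Y] := by
    show η[X] ≫ (e.hom * (toUnit X ≫ c)⁻¹) = η[Y]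
    rw [MonObj.comp_mul, GrpObj.comp_inv, ← Category.assoc η[X] (toUnit X), toUnit_unique (η[X] ≫ toUnit X) (𝟙 _),
      Category.id_comp, mul_inv_cancel, Hom.one_def, toUnit_unit, Category.id_comp]
  haveI : GeometricallyConnected X.hom := W7See.geometricallyConnected_of_geometricallyIntegral X.hom
  have hf : IsMonHom f :=
    Rigid.isMonHom_of_unit (Rigid.goodFibres_of_geometricallyIntegral X.hom) Rigid.isPreconnected_fibre f hu
  have hfg : f ≫ g = 𝟙 X := by
    show f ≫ (𝟙 Y * (toUnit Y ≫ c)) ≫ e.inv = 𝟙 X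
    rw [← Category.assoc, MonObj.comp_mul, Category.comp_id, ← Category.assoc f (toUnit Y),
      toUnit_unique (f ≫ toUnit Y) (toUnit X), inv_mul_cancel_right, Iso.hom_inv_id]
  have hgf : g ≫ f = 𝟙 Y := by
    show g ≫ (e.hom * (toUnit X ≫ c)⁻¹) = 𝟙 Y
    rw [MonObj.comp_mul, GrpObj.comp_inv, ← Category.assoc g (toUnit X), toUnit_unique (g ≫ toUnit X) (toUnit Y)]
    show ((𝟙 Y * (toUnit Y ≫ c)) ≫ e.inv) ≫ e.hom * _ = _
    rw [Category.assoc, Iso.inv_hom_id, Category.comp_id, mul_inv_cancel_right]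
  let F : X ≅ Y := ⟨f, g, hfg, hgf⟩
  haveI : IsMonHom F.hom := hf
  haveI : IsIso F.hom := Iso.isIso_hom F
  refine ⟨F, hf, ⟨?_, ?_⟩⟩
  · rw [← cancel_mono F.hom, Category.assoc, Iso.inv_hom_id, Category.comp_id, IsMonHom.one_hom F.hom]
  · rw [← cancel_mono F.hom, Category.assoc, Iso.inv_hom_id, Category.comp_id, Category.assoc,
      IsMonHom.mul_hom F.hom, tensorHom_comp_tensorHom_assoc, Iso.inv_hom_id, id_tensorHom_id, Category.id_comp]

end Groth.Agent.AVQuot
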