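import Groth.Agent.GrpAct.Groupoid
import Groth.Agent.Grpd.SheafQuot
import Groth.Agent.TMul.AmpleBasis
import Groth.Agent.FlatMor.ReducedDescent
import Groth.Agent.FMTool.AVPush
import Groth.Agent.S8121
import Groth.Agent.S5938

/-!
Quotients of abelian varieties by finite subgroup schemes.
-/

set_option autoImplicit false
set_option backward.isDefEq.respectTransparency false
set_option backward.isDefEq.respectTransparency.types false
set_option linter.style.haveILetI false
set_option linter.unusedSectionVars false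
set_option maxHeartbeats 1000000

universe u

open CategoryTheory CategoryTheory.Limits MonoidalCategory CartesianMonoidalCategory MonObj GrpObj AlgebraicGeometry

noncomputable section

namespace Groth.Agent.AVQuot

section Over

variable {S : Scheme.{u}}

/-- morphisms descend along coverings -/
theorem exists_desc {X M T : Over S} (q : X ⟶ M) [Flat q.left] [Surjective q.left]
    [LocallyOfFinitePresentation q.left] (f : X ⟶ T)
    (h : ∀ {V : Over S} (a b : V ⟶ X), a ≫ q = b ≫ q → a ≫ f = b ≫ f) : ∃ g : M ⟶ T, q ≫ g = f := by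
  have hc : ∀ {Z : Scheme.{u}} (g₁ g₂ : Z ⟶ X.left), g₁ ≫ q.left = g₂ ≫ q.left → g₁ ≫ f.left = g₂ ≫ f.left :=
    fun {Z} g₁ g₂ he => by
      let b : Over.mk (g₁ ≫ X.hom) ⟶ X := Over.homMk g₂ (by
        change g₂ ≫ X.hom = g₁ ≫ X.hom
        rw [← Over.w q, ← Category.assoc, ← he, Category.assoc])
      exact congrArg CommaMorphism.left
        (h (Over.homMk g₁ rfl : Over.mk (g₁ ≫ X.hom) ⟶ X) b (Over.OverMorphism.ext he))
  haveI : Epi q.left := Flat.epi_of_flat_of_surjective _
  refine ⟨Over.homMk (EffectiveEpi.desc q.left f.left hc) ?_, ?_⟩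
  · rw [← cancel_epi q.left, ← Category.assoc, EffectiveEpi.fac q.left f.left hc, Over.w, Over.w]
  · exact Over.OverMorphism.ext (EffectiveEpi.fac q.left f.left hc)

theorem epi_of_covering {X M : Over S} (q : X ⟶ M) [Flat q.left] [Surjective q.left] : Epi q := by
  haveI : Epi q.left := Flat.epi_of_flat_of_surjective _
  exact Over.epi_of_epi_left q

end Over

variable {k : Type u} [Field k]

theorem covering_tensor {X X' Y Y' : Over (Spec (CommRingCat.of k))} (f : X ⟶ X') (g : Y ⟶ Y')
    [Flat f.left] [Surjective f.left] [LocallyOfFinitePresentation f.left]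
    [Flat g.left] [Surjective g.left] [LocallyOfFinitePresentation g.left] :
    Flat (f ⊗ₘ g).left ∧ Surjective (f ⊗ₘ g).left ∧ LocallyOfFinitePresentation (f ⊗ₘ g).left := by
  have h1 := FMTool.isPullback_fst_whiskerRight f Y
  have h2 := (FMTool.isPullback_whiskerLeft (A := X') g).flip
  rw [MonoidalCategory.tensorHom_def, Over.comp_left]
  haveI : Flat (f ▷ Y).left := MorphismProperty.of_isPullback (P := @Flat) h1 ‹_›
  haveI : Surjective (f ▷ Y).left := MorphismProperty.of_isPullback (P := @Surjective) h1 ‹_›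
  haveI : LocallyOfFinitePresentation (f ▷ Y).left :=
    MorphismProperty.of_isPullback (P := @LocallyOfFinitePresentation) h1 ‹_›
  haveI : Flat (X' ◁ g).left := MorphismProperty.of_isPullback (P := @Flat) h2 ‹_›
  haveI : Surjective (X' ◁ g).left := MorphismProperty.of_isPullback (P := @Surjective) h2 ‹_›
  haveI : LocallyOfFinitePresentation (X' ◁ g).left :=
    MorphismProperty.of_isPullback (P := @LocallyOfFinitePresentation) h2 ‹_›
  exact ⟨inferInstance, inferInstance, inferInstance⟩

variable {A : Over (Spec (CommRingCat.of k))} [GrpObj A] [IsProper A.hom] [GeometricallyIntegral A.hom]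
  [IsCommMonObj A]

/-- the translation action of a subgroup -/
def translAction {N : Over (Spec (CommRingCat.of k))} [GrpObj N] (i : N ⟶ A) [IsMonHom i] : AlgGrp.Action N A where
  act := (fst N A ≫ i) * snd N A
  one_act := by
    rw [MonObj.comp_mul, whiskerRight_fst_assoc, whiskerRight_snd, IsMonHom.one_hom, leftUnitor_hom,
      toUnit_unique (fst (𝟙_ _) A) (toUnit _), ← Hom.one_def, _root_.one_mul]
  mul_act := by
    simp only [MonObj.comp_mul, MonObj.mul_comp, whiskerRight_fst_assoc, whiskerRight_snd, whiskerLeft_fst_assoc,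
      whiskerLeft_snd_assoc, associator_hom_fst_assoc, associator_hom_snd_fst_assoc, associator_hom_snd_snd,
      IsMonHom.mul_hom, whiskerLeft_snd, MonObj.mul_eq_mul, Category.assoc, _root_.mul_assoc]

/-- **the quotient by a finite subgroup scheme** -/
theorem exists_quotient {N : Over (Spec (CommRingCat.of k))} [GrpObj N] (i : N ⟶ A) [IsMonHom i] [Mono i]
    [IsFinite N.hom] :
    ∃ (B : Over (Spec (CommRingCat.of k))) (_ : GrpObj B) (_ : IsCommMonObj B) (f : A ⟶ B),
      IsProper B.hom ∧ GeometricallyIntegral B.hom ∧ IsMonHom f ∧ IsFinite f.left ∧ Flat f.left ∧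
      Surjective f.left ∧ AlgGrp.IsKernel i f := by
  let a := translAction i
  let Gr := GrpAct.groupoid a
  have hfree : ∀ (T : Over (Spec (CommRingCat.of k))) (g : T ⟶ N) (x : T ⟶ A),
      lift g x ≫ a.act = x → g = toUnit T ≫ η[N] := fun T g x h => by
    rw [show lift g x ≫ a.act = (g ≫ i) * x by
      change lift g x ≫ ((fst N A ≫ i) * snd N A) = _
      rw [MonObj.comp_mul, lift_fst_assoc, lift_snd]] at h
    rw [← Hom.one_def, ← cancel_mono i, MonObj.one_comp]
    exact mul_eq_right.1 h
  haveI : Mono Gr.j := by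
    have hm := (GrpAct.mono_graph_iff a).mp hfree
    exact inferInstanceAs (Mono ((Over.forget _).map (lift a.act (snd N A))))
  have hs : Gr.s = pullback.snd N.hom A.hom := rfl
  haveI : Flat N.hom := inferInstance
  haveI : LocallyOfFinitePresentation N.hom := inferInstance
  haveI : IsFinite Gr.s := by rw [hs]; exact MorphismProperty.pullback_snd (P := @IsFinite) _ _ ‹_›
  haveI : Flat Gr.s := by rw [hs]; exact MorphismProperty.pullback_snd (P := @Flat) _ _ ‹_›
  haveI : LocallyOfFinitePresentation Gr.s := by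
    rw [hs]; exact MorphismProperty.pullback_snd (P := @LocallyOfFinitePresentation) _ _ ‹_›
  obtain ⟨H, hH, -⟩ := S8121.result k A
  have hO : GrpdLib.OrbitsAffine Gr := fun x => by
    obtain ⟨n, t, ht, -, haff⟩ := TMul.exists_finite_le hH
      ((Gr.s.finite_preimage_singleton x).image Gr.t : (GrpdLib.orbit Gr x).Finite) (U := ⊤) (Set.subset_univ _)
    exact ⟨_, haff, ht⟩
  obtain ⟨M, m, ⟨_, _, _⟩, hpb, hq⟩ := GrpdLib.exists_quotient_fppf hO
  let f : A ⟶ M := Over.homMk m.left (Over.w m)
  haveI : IsFinite f.left := ‹IsFinite m.left›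
  haveI : Flat f.left := ‹Flat m.left›
  haveI : LocallyOfFinitePresentation f.left := ‹LocallyOfFinitePresentation m.left›
  haveI : Surjective f.left := QuotShLib.fppf_of_isQuotient_surjective hq
  haveI : Surjective m.left := ‹Surjective f.left›
  have hrel : ∀ {V : Over (Spec (CommRingCat.of k))} (x y : V ⟶ A), x ≫ f = y ≫ f ↔
      ∃ n : V ⟶ N, x = (n ≫ i) * y := fun {V} x y => by
    constructor
    · intro h
      let r := hpb.lift x.left y.left (congrArg CommaMorphism.left h)
      have hr : r ≫ (snd N A).left = y.left := hpb.lift_snd _ _ _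
      have hr' : r ≫ a.act.left = x.left := hpb.lift_fst _ _ _
      let r' : V ⟶ N ⊗ A := Over.homMk r (by
        rw [← Over.w (snd N A), ← Category.assoc, hr, Over.w])
      have e1 : r' ≫ snd N A = y := Over.OverMorphism.ext hr
      have e2 : r' ≫ a.act = x := Over.OverMorphism.ext hr'
      refine ⟨r' ≫ fst N A, ?_⟩
      rw [← e2, ← e1, Category.assoc, ← MonObj.comp_mul]
      rfl
    · rintro ⟨n, rfl⟩
      have h : a.act ≫ f = snd N A ≫ f := Over.OverMorphism.ext hpb.w
      have := congrArg (lift n y ≫ ·) h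
      simp only [lift_snd_assoc, ← Category.assoc] at this
      rwa [show lift n y ≫ a.act = (n ≫ i) * y by
        change lift n y ≫ ((fst N A ≫ i) * snd N A) = _
        rw [MonObj.comp_mul, lift_fst_assoc, lift_snd], lift_snd] at this
  -- the group law
  obtain ⟨hff, hff', hff''⟩ := covering_tensor f f
  obtain ⟨μB, hμ⟩ := exists_desc (f ⊗ₘ f) (μ[A] ≫ f) fun {V} x y h => by
    have h1 := congrArg (· ≫ fst M M) h
    have h2 := congrArg (· ≫ snd M M) h
    simp only [Category.assoc, tensorHom_fst, tensorHom_snd] at h1 h2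
    rw [← Category.assoc, ← Category.assoc] at h1 h2
    obtain ⟨n, hn⟩ := (hrel _ _).1 h1
    obtain ⟨n', hn'⟩ := (hrel _ _).1 h2
    rw [← Category.assoc, ← Category.assoc]
    refine (hrel _ _).2 ⟨n * n', ?_⟩
    rw [MonObj.mul_eq_mul, MonObj.comp_mul, MonObj.comp_mul, hn, hn', MonObj.mul_comp]
    exact _root_.mul_mul_mul_comm _ _ _ _
  obtain ⟨ιB, hι⟩ := exists_desc f (ι[A] ≫ f) fun {V} x y h => by
    obtain ⟨n, hn⟩ := (hrel _ _).1 h
    rw [← Category.assoc, ← Category.assoc]
    refine (hrel _ _).2 ⟨n⁻¹, ?_⟩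
    rw [← Hom.inv_def, ← Hom.inv_def, GrpObj.inv_comp, hn, _root_.mul_inv_rev, _root_.mul_comm]
  haveI : Epi f := epi_of_covering f
  obtain ⟨hfl, hfl', hfl''⟩ := covering_tensor (𝟙 (𝟙_ (Over (Spec (CommRingCat.of k))))) f
  obtain ⟨hfr, hfr', hfr''⟩ := covering_tensor f (𝟙 (𝟙_ (Over (Spec (CommRingCat.of k)))))
  obtain ⟨h3, h3', h3''⟩ := covering_tensor (f ⊗ₘ f) f
  letI instM : MonObj M :=
    { one := η[A] ≫ f
      mul := μB
      one_mul := by
        haveI := epi_of_covering (𝟙 (𝟙_ (Over (Spec (CommRingCat.of k)))) ⊗ₘ f)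
        rw [← cancel_epi (𝟙 (𝟙_ (Over (Spec (CommRingCat.of k)))) ⊗ₘ f), ← Category.assoc,
          show (𝟙 (𝟙_ (Over (Spec (CommRingCat.of k)))) ⊗ₘ f) ≫ (η[A] ≫ f) ▷ M =
            (η[A] ▷ A) ≫ (f ⊗ₘ f) by
              apply CartesianMonoidalCategory.hom_ext <;>
                simp [toUnit_unique (fst (𝟙_ (Over (Spec (CommRingCat.of k)))) A) (toUnit _), leftUnitor_hom, rightUnitor_hom]]
        simp only [Category.assoc, hμ]
        rw [MonObj.one_mul_assoc]
        simp
      mul_one := by
        haveI := epi_of_covering (f ⊗ₘ 𝟙 (𝟙_ (Over (Spec (CommRingCat.of k)))))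
        rw [← cancel_epi (f ⊗ₘ 𝟙 (𝟙_ (Over (Spec (CommRingCat.of k))))), ← Category.assoc,
          show (f ⊗ₘ 𝟙 (𝟙_ (Over (Spec (CommRingCat.of k))))) ≫ M ◁ (η[A] ≫ f) =
            (A ◁ η[A]) ≫ (f ⊗ₘ f) by
              apply CartesianMonoidalCategory.hom_ext <;>
                simp [toUnit_unique (snd A (𝟙_ (Over (Spec (CommRingCat.of k))))) (toUnit _), leftUnitor_hom, rightUnitor_hom]]
        simp only [Category.assoc, hμ]
        rw [MonObj.mul_one_assoc]
        simp
      mul_assoc := by
        haveI := epi_of_covering ((f ⊗ₘ f) ⊗ₘ f)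
        rw [← cancel_epi ((f ⊗ₘ f) ⊗ₘ f)]
        have e1 : ((f ⊗ₘ f) ⊗ₘ f) ≫ μB ▷ M = (μ[A] ▷ A) ≫ (f ⊗ₘ f) := by
          apply CartesianMonoidalCategory.hom_ext
          · simp only [Category.assoc, whiskerRight_fst, tensorHom_fst, tensorHom_fst_assoc, whiskerRight_fst_assoc, hμ]
          · simp
        have e2 : ((f ⊗ₘ f) ⊗ₘ f) ≫ (α_ M M M).hom ≫ M ◁ μB = (α_ A A A).hom ≫ (A ◁ μ[A]) ≫ (f ⊗ₘ f) := by
          apply CartesianMonoidalCategory.hom_ext
          · simp
          · have : ((f ⊗ₘ f) ⊗ₘ f) ≫ (α_ M M M).hom ≫ snd M (M ⊗ M) =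
                (α_ A A A).hom ≫ snd A (A ⊗ A) ≫ (f ⊗ₘ f) := by
              apply CartesianMonoidalCategory.hom_ext <;> simp
            simp only [Category.assoc, whiskerLeft_snd, tensorHom_snd, whiskerLeft_snd_assoc]
            rw [reassoc_of% this, hμ]
        rw [reassoc_of% e1, hμ, MonObj.mul_assoc_assoc]
        rw [show ((f ⊗ₘ f) ⊗ₘ f) ≫ (α_ M M M).hom ≫ M ◁ μB ≫ μB =
          (((f ⊗ₘ f) ⊗ₘ f) ≫ (α_ M M M).hom ≫ M ◁ μB) ≫ μB by simp only [Category.assoc], e2]
        simp only [Category.assoc, hμ] }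
  letI instG : GrpObj M :=
    { inv := ιB
      left_inv := by
        rw [← cancel_epi f]
        change f ≫ lift ιB (𝟙 M) ≫ μB = f ≫ toUnit M ≫ η[A] ≫ f
        rw [← Category.assoc, comp_lift, hι, Category.comp_id,
          show lift (ι[A] ≫ f) f = lift ι[A] (𝟙 A) ≫ (f ⊗ₘ f) by rw [lift_map, Category.id_comp], Category.assoc, hμ,
          GrpObj.left_inv_assoc, ← Category.assoc f, toUnit_unique (f ≫ toUnit M) (toUnit A)]
      right_inv := by
        rw [← cancel_epi f]
        change f ≫ lift (𝟙 M) ιB ≫ μB = f ≫ toUnit M ≫ η[A] ≫ f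
        rw [← Category.assoc, comp_lift, hι, Category.comp_id,
          show lift f (ι[A] ≫ f) = lift (𝟙 A) ι[A] ≫ (f ⊗ₘ f) by rw [lift_map, Category.id_comp], Category.assoc, hμ,
          GrpObj.right_inv_assoc, ← Category.assoc f, toUnit_unique (f ≫ toUnit M) (toUnit A)] }
  haveI hf : IsMonHom f := ⟨rfl, hμ.symm⟩
  -- geometric properties
  haveI : IsSeparated M.hom := (GrpdLib.separation_of_quotient Gr m hpb).1 (inferInstanceAs (IsSeparated A.hom))
  haveI : UniversallyClosed (f.left ≫ M.hom) := by rw [Over.w f]; infer_instance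
  haveI : UniversallyClosed M.hom := UniversallyClosed.of_comp_surjective f.left M.hom
  haveI : LocallyOfFiniteType M.hom := by
    haveI : LocallyOfFiniteType (f.left ≫ M.hom) := by rw [Over.w f]; infer_instance
    exact S5938.result f.left M.hom
  haveI : IsProper M.hom := IsProper.mk
  haveI : GeometricallyIntegral M.hom := by
    refine ⟨fun K _ x Z fst snd hZ => ?_⟩
    have hZ' : IsPullback (pullback.fst f.left fst) (pullback.snd f.left fst ≫ snd) A.hom x := by
      rw [← Over.w f]
      exact IsPullback.paste_horiz (IsPullback.of_hasPullback f.left fst).flip hZ.flip |>.flip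
    haveI : IsIntegral (pullback f.left fst) :=
      GeometricallyIntegral.geometrically_isIntegral (f := A.hom) _ _ _ hZ'
    haveI : Surjective (pullback.snd f.left fst) := MorphismProperty.pullback_snd _ _ ‹_›
    haveI : Flat (pullback.snd f.left fst) := MorphismProperty.pullback_snd _ _ ‹_›
    rw [isIntegral_iff_irreducibleSpace_and_isReduced]
    refine ⟨?_, FlatMor.isReduced_of_flat_surjective (pullback.snd f.left fst)⟩
    exact (pullback.snd f.left fst).surjective.irreducibleSpace (pullback.snd f.left fst).continuous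
  refine ⟨M, instG, isCommMonObj_of_isProper_of_geometricallyIntegral M, f, inferInstance, inferInstance, hf,
    inferInstance, inferInstance, inferInstance, ?_⟩
  -- the kernel
  have hw : i ≫ f = toUnit N ≫ η[M] := by
    rw [← Hom.one_def]
    exact ((hrel i (1 : N ⟶ A)).2 ⟨𝟙 N, by rw [Category.id_comp, _root_.mul_one]⟩).trans (MonObj.one_comp f)
  refine ⟨⟨hw⟩, ⟨PullbackCone.IsLimit.mk _ (fun s => ?_) (fun s => ?_) (fun s => toUnit_unique _ _)
    fun s g h1 _ => ?_⟩⟩
  · refine ((hrel s.fst 1).1 ?_).choose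
    rw [MonObj.one_comp, Hom.one_def, s.condition, toUnit_unique s.snd (toUnit _)]
  · generalize_proofs hh
    have := hh.choose_spec
    rw [_root_.mul_one] at this
    exact this.symm
  · generalize_proofs hh
    rw [← cancel_mono i, h1]
    have := hh.choose_spec
    rwa [_root_.mul_one] at this

end Groth.Agent.AVQuot
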