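import Groth.Agent.AVQuot.TateArg
import Groth.Agent.AVDeg.FrobEnd
import Groth.Agent.Azumaya.BaseChange
import Groth.Agent.W7Cube.Cube
import Mathlib.RingTheory.SimpleModule.Basic

/-!
# Semisimplicity of the Galois action and the commutant, given finiteness
-/

set_option autoImplicit false
set_option backward.isDefEq.respectTransparency false
set_option linter.style.haveILetI false
set_option linter.unusedSectionVars false
set_option synthInstance.maxHeartbeats 400000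
set_option maxHeartbeats 1000000

universe u

open CategoryTheory MonoidalCategory CartesianMonoidalCategory MonObj GrpObj AlgebraicGeometry
open scoped TensorProduct

noncomputable section

namespace Groth.Agent.AVQuot

variable {k : Type u} (Ω : Type u) [Field k] [Field Ω] [Algebra k Ω] {l : ℕ} [Fact l.Prime]
variable {X : Over (Spec (CommRingCat.of k))} [GrpObj X] [IsCommMonObj X] [IsProper X.hom] [GeometricallyIntegral X.hom]

section Algebra

variable (l X) in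
/-- The representation of `ℚ_l ⊗ End⁰` on `V_l`. -/
def ratRepL : ℚ_[l] ⊗[ℚ] EndAV.End0 X →ₐ[ℚ_[l]]
    Module.End ℚ_[l] (ℚ_[l] ⊗[ℤ_[l]] AbDual.TateMod X l (SGA7.pt (K := k) Ω)) :=
  Algebra.TensorProduct.lift (Algebra.ofId ℚ_[l] _) (AVDeg.ratRep (l := l) Ω) fun q _ => Algebra.commutes q _

theorem ratRepL_tmul (c : ℚ_[l]) (φ : EndAV.End X) :
    ratRepL Ω l X (c ⊗ₜ[ℚ] EndAV.toEnd0 φ) =
      c • (AbDual.tateMapₗ (l := l) (T := SGA7.pt (K := k) Ω) φ.toHom).baseChange ℚ_[l] := by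
  rw [ratRepL, Algebra.TensorProduct.lift_tmul, AVDeg.ratRep_toEnd0, Algebra.ofId_apply, Algebra.smul_def]

theorem end0_eq_smul (y : EndAV.End0 X) : ∃ (q : ℚ) (φ : EndAV.End X), y = q • EndAV.toEnd0 φ := by
  induction y using TensorProduct.induction_on with
  | zero => exact ⟨0, 0, by rw [zero_smul]⟩
  | tmul q φ => exact ⟨q, φ, by rw [EndAV.toEnd0_apply, TensorProduct.smul_tmul', smul_eq_mul, _root_.mul_one]⟩
  | add a b ha hb =>
    obtain ⟨q₁, φ₁, rfl⟩ := ha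
    obtain ⟨q₂, φ₂, rfl⟩ := hb
    refine ⟨1 / ((q₁.den : ℚ) * q₂.den), (q₁.num * q₂.den : ℤ) • φ₁ + (q₂.num * q₁.den : ℤ) • φ₂, ?_⟩
    rw [map_add, map_zsmul, map_zsmul, ← Int.cast_smul_eq_zsmul ℚ, ← Int.cast_smul_eq_zsmul ℚ, smul_add, smul_smul,
      smul_smul]
    have d₁ : (q₁.den : ℚ) ≠ 0 := Nat.cast_ne_zero.2 q₁.den_nz
    have d₂ : (q₂.den : ℚ) ≠ 0 := Nat.cast_ne_zero.2 q₂.den_nz
    congr 2 <;> (push_cast; field_simp) <;> first | exact q₁.mul_den_eq_num | exact q₂.mul_den_eq_num | rfl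

theorem range_ratRepL :
    Subalgebra.toSubmodule (ratRepL Ω l X).range =
      Submodule.span ℚ_[l] {ψ : Module.End ℚ_[l] (ℚ_[l] ⊗[ℤ_[l]] AbDual.TateMod X l (SGA7.pt (K := k) Ω)) |
          ∃ (f : X ⟶ X) (_ : IsMonHom f), ψ = (AbDual.tateMapₗ (l := l) (T := SGA7.pt (K := k) Ω) f).baseChange ℚ_[l]} := by
  refine le_antisymm ?_ (Submodule.span_le.2 ?_)
  · rintro _ ⟨x, rfl⟩
    induction x using TensorProduct.induction_on with
    | zero => rw [map_zero]; exact Submodule.zero_mem _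
    | tmul c y =>
      obtain ⟨q, φ, rfl⟩ := end0_eq_smul y
      rw [← TensorProduct.smul_tmul]
      show ratRepL Ω l X _ ∈ _
      rw [ratRepL_tmul]
      exact Submodule.smul_mem _ _ (Submodule.subset_span ⟨φ.toHom, inferInstance, rfl⟩)
    | add a b ha hb => rw [map_add]; exact Submodule.add_mem _ ha hb
  · rintro _ ⟨f, hf, rfl⟩
    exact ⟨1 ⊗ₜ[ℚ] EndAV.toEnd0 (EndAV.End.of f), by
      show ratRepL Ω l X _ = _
      rw [ratRepL_tmul, one_smul]; rfl⟩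

theorem isSemisimpleRing_range : IsSemisimpleRing (ratRepL Ω l X).range := by
  haveI := AVDeg.finite_end0 (A := X)
  haveI : IsSemisimpleRing (EndAV.End0 X) := AgIsog.isSemisimpleRing_end0
  haveI : Algebra.IsSeparable ℚ (Subalgebra.center ℚ (EndAV.End0 X)) := by
    refine ⟨fun z => ?_⟩
    haveI : Module.Finite ℚ (Subalgebra.center ℚ (EndAV.End0 X)) :=
      Module.Finite.of_injective (Subalgebra.center ℚ (EndAV.End0 X)).val.toLinearMap Subtype.val_injective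
    show (minpoly ℚ z).Separable
    rw [← minpoly.algHom_eq (Subalgebra.center ℚ (EndAV.End0 X)).val Subtype.val_injective z]
    refine PerfectField.separable_iff_squarefree.mpr
      ((AVDeg.isRadical_minpoly_central (a := (z : EndAV.End0 X)) fun y => ?_).squarefree
        (minpoly.ne_zero (IsIntegral.of_finite ℚ _)))
    exact ((Subalgebra.mem_center_iff.1 z.2) y).symm
  haveI := Azumaya.isSemisimpleRing_baseChange ℚ (EndAV.End0 X) ℚ_[l]
  letI : Ring (ratRepL Ω l X).range := Subalgebra.toRing _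
  have h : Function.Surjective (ratRepL Ω l X).rangeRestrict.toRingHom := (ratRepL Ω l X).rangeRestrict_surjective
  exact @RingHom.isSemisimpleRing_of_surjective (ℚ_[l] ⊗[ℚ] EndAV.End0 X) (ratRepL Ω l X).range _ _
    (ratRepL Ω l X).rangeRestrict.toRingHom h _

/-- Images of elements are images of idempotents. -/
theorem exists_idempotent {V : Type*} [AddCommGroup V] [Module ℚ_[l] V] (E : Subalgebra ℚ_[l] (Module.End ℚ_[l] V))
    [IsSemisimpleRing E] {u : Module.End ℚ_[l] V} (hu : u ∈ E) :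
    ∃ e ∈ E, IsIdempotentElem e ∧ LinearMap.range e = LinearMap.range u := by
  obtain ⟨e, he, hI⟩ := IsSemisimpleRing.ideal_eq_span_idempotent (Ideal.span {(⟨u, hu⟩ : E)} : Ideal E)
  obtain ⟨a, ha⟩ := Ideal.mem_span_singleton'.1 (hI ▸ Ideal.mem_span_singleton_self e)
  obtain ⟨b, hb⟩ := Ideal.mem_span_singleton'.1 (hI ▸ Ideal.mem_span_singleton_self (⟨u, hu⟩ : E))
  have huau : u * ((a : Module.End ℚ_[l] V) * u) = u := by
    have h : (⟨u, hu⟩ : E) * e = ⟨u, hu⟩ := by rw [← hb, _root_.mul_assoc, he.eq]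
    rw [← ha] at h
    exact congrArg Subtype.val h
  refine ⟨u * (a : Module.End ℚ_[l] V), E.mul_mem hu a.2, ?_, le_antisymm ?_ ?_⟩
  · show u * (a : Module.End ℚ_[l] V) * (u * (a : Module.End ℚ_[l] V)) = _
    rw [← _root_.mul_assoc, _root_.mul_assoc u, huau]
  · exact LinearMap.range_comp_le_range _ _
  · rintro _ ⟨x, rfl⟩
    exact ⟨u x, LinearMap.congr_fun huau x⟩

/-- Double commutant of a semisimple algebra of linear maps. -/
theorem mem_of_commute_commutant {V : Type*} [AddCommGroup V] [Module ℚ_[l] V] [Module.Finite ℚ_[l] V]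
    (E : Subalgebra ℚ_[l] (Module.End ℚ_[l] V)) [IsSemisimpleRing E] (φ : Module.End ℚ_[l] V)
    (hφ : ∀ c : Module.End ℚ_[l] V, (∀ e ∈ E, e * c = c * e) → φ * c = c * φ) : φ ∈ E := by
  let F : Module.End (Module.End E V) V :=
    { toFun := φ
      map_add' := map_add φ
      map_smul' := fun c v => LinearMap.congr_fun
        (hφ (c.restrictScalars ℚ_[l]) fun e he => LinearMap.ext fun w => (c.map_smul ⟨e, he⟩ w).symm) v }
  haveI : Module.Finite (Module.End E V) V := by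
    obtain ⟨s, hs⟩ := Module.Finite.fg_top (R := ℚ_[l]) (M := V)
    suffices key : ∀ v, v ∈ Submodule.span ℚ_[l] (s : Set V) → v ∈ Submodule.span (Module.End E V) (s : Set V) from
      ⟨⟨s, eq_top_iff.2 fun v _ => key v (hs.ge Submodule.mem_top)⟩⟩
    intro v hv
    induction hv using Submodule.span_induction with
    | mem m hm => exact Submodule.subset_span hm
    | zero => exact Submodule.zero_mem _
    | add a b _ _ ha hb => exact Submodule.add_mem _ ha hb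
    | smul r a _ ha =>
      exact (Submodule.smul_mem _ (r • (1 : Module.End E V)) ha :)
  obtain ⟨e, he⟩ := Module.Finite.toModuleEnd_moduleEnd_surjective (R := E) (M := V) F
  have : (e : Module.End ℚ_[l] V) = φ := LinearMap.ext fun v => LinearMap.congr_fun he v
  exact this ▸ e.2

end Algebra

section Tate

variable {S : Scheme.{u}} {A B C : Over S} [GrpObj A] [IsCommMonObj A] [GrpObj B] [IsCommMonObj B]
  [GrpObj C] [IsCommMonObj C] {T : Over S}

theorem tateMapₗ_comp' (f : A ⟶ B) [IsMonHom f] (g : B ⟶ C) [IsMonHom g] :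
    AbDual.tateMapₗ (l := l) (T := T) (f ≫ g) =
      (AbDual.tateMapₗ (l := l) (T := T) g) ∘ₗ (AbDual.tateMapₗ (l := l) (T := T) f) :=
  LinearMap.ext fun z => tateMapₗ_comp f g z

theorem tateMapₗ_congr (f g : A ⟶ B) [IsMonHom f] [IsMonHom g] (h : f = g) :
    AbDual.tateMapₗ (l := l) (T := T) f = AbDual.tateMapₗ (l := l) (T := T) g := by
  subst h; rfl

theorem tateMapₗ_mul (f g : A ⟶ B) [IsMonHom f] [IsMonHom g] [IsMonHom (f * g)] :
    AbDual.tateMapₗ (l := l) (T := T) (f * g) =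
      AbDual.tateMapₗ (l := l) (T := T) f + AbDual.tateMapₗ (l := l) (T := T) g :=
  LinearMap.ext fun z => AbDual.TateMod.ext fun n =>
    congrArg Additive.ofMul (MonObj.comp_mul ((z : ℕ → Additive (T ⟶ A)) n).toMul f g)

theorem tateMapₗ_one : AbDual.tateMapₗ (l := l) (T := T) (1 : A ⟶ B) = 0 :=
  LinearMap.ext fun _ => AbDual.TateMod.ext fun _ => congrArg Additive.ofMul (MonObj.comp_one _)

theorem tateMapₗ_id : AbDual.tateMapₗ (l := l) (T := T) (𝟙 A) = LinearMap.id :=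
  LinearMap.ext fun _ => AbDual.TateMod.ext fun _ => congrArg Additive.ofMul (Category.comp_id _)

theorem tateMapₗ_fst_inl (z : AbDual.TateMod A l T) :
    AbDual.tateMapₗ (l := l) (T := T) (fst A B) (AbDual.tateMapₗ (l := l) (T := T) (lift (𝟙 A) (1 : A ⟶ B)) z) = z := by
  rw [← tateMapₗ_comp, tateMapₗ_congr _ (𝟙 A) (lift_fst _ _), tateMapₗ_id]; rfl

theorem tateMapₗ_snd_inr (z : AbDual.TateMod B l T) :
    AbDual.tateMapₗ (l := l) (T := T) (snd A B) (AbDual.tateMapₗ (l := l) (T := T) (lift (1 : B ⟶ A) (𝟙 B)) z) = z := by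
  rw [← tateMapₗ_comp, tateMapₗ_congr _ (𝟙 B) (lift_snd _ _), tateMapₗ_id]; rfl

theorem tateMapₗ_snd_inl (z : AbDual.TateMod A l T) :
    AbDual.tateMapₗ (l := l) (T := T) (snd A B) (AbDual.tateMapₗ (l := l) (T := T) (lift (𝟙 A) (1 : A ⟶ B)) z) = 0 := by
  rw [← tateMapₗ_comp, tateMapₗ_congr _ (1 : A ⟶ B) (lift_snd _ _), tateMapₗ_one]; rfl

theorem tateMapₗ_fst_inr (z : AbDual.TateMod B l T) :
    AbDual.tateMapₗ (l := l) (T := T) (fst A B) (AbDual.tateMapₗ (l := l) (T := T) (lift (1 : B ⟶ A) (𝟙 B)) z) = 0 := by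
  rw [← tateMapₗ_comp, tateMapₗ_congr _ (1 : B ⟶ A) (lift_fst _ _), tateMapₗ_one]; rfl

theorem tateMapₗ_inl_add_inr (z : AbDual.TateMod (A ⊗ B) l T) :
    AbDual.tateMapₗ (l := l) (T := T) (lift (𝟙 A) (1 : A ⟶ B)) (AbDual.tateMapₗ (l := l) (T := T) (fst A B) z) +
      AbDual.tateMapₗ (l := l) (T := T) (lift (1 : B ⟶ A) (𝟙 B)) (AbDual.tateMapₗ (l := l) (T := T) (snd A B) z) = z := by
  haveI : IsMonHom ((fst A B ≫ lift (𝟙 A) (1 : A ⟶ B)) * (snd A B ≫ lift (1 : B ⟶ A) (𝟙 B))) := by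
    rw [Hom.mul_def]; infer_instance
  rw [← tateMapₗ_comp, ← tateMapₗ_comp, ← LinearMap.add_apply, ← tateMapₗ_mul, tateMapₗ_congr _ (𝟙 (A ⊗ B)) (by
    apply CartesianMonoidalCategory.hom_ext <;> simp [MonObj.mul_comp]), tateMapₗ_id]
  rfl

/-- The Tate module of a product. -/
def tateProd : AbDual.TateMod (A ⊗ B) l T ≃ₗ[ℤ_[l]] AbDual.TateMod A l T × AbDual.TateMod B l T where
  toFun z := (AbDual.tateMapₗ (l := l) (T := T) (fst A B) z, AbDual.tateMapₗ (l := l) (T := T) (snd A B) z)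
  invFun p := AbDual.tateMapₗ (l := l) (T := T) (lift (𝟙 A) (1 : A ⟶ B)) p.1 +
    AbDual.tateMapₗ (l := l) (T := T) (lift (1 : B ⟶ A) (𝟙 B)) p.2
  map_add' z w := by rw [map_add, map_add]; rfl
  map_smul' r z := by rw [map_smul, map_smul]; rfl
  left_inv z := tateMapₗ_inl_add_inr z
  right_inv p := by
    refine Prod.ext ?_ ?_
    · show AbDual.tateMapₗ (l := l) (T := T) (fst A B) (_ + _) = _
      rw [map_add, tateMapₗ_fst_inl, tateMapₗ_fst_inr, add_zero]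
    · show AbDual.tateMapₗ (l := l) (T := T) (snd A B) (_ + _) = _
      rw [map_add, tateMapₗ_snd_inl, tateMapₗ_snd_inr, zero_add]

end Tate

section Main

variable [IsAlgClosure k Ω]

/-- Semisimplicity: stable subspaces have stable complements. -/
theorem exists_compl (hl : (l : k) ≠ 0) (hFin : FinIsog l X)
    [Module.Free ℤ_[l] (AbDual.TateMod X l (SGA7.pt (K := k) Ω))]
    [Module.Finite ℤ_[l] (AbDual.TateMod X l (SGA7.pt (K := k) Ω))]
    (ρ : (Ω ≃ₐ[k] Ω) → Module.End ℤ_[l] (AbDual.TateMod X l (SGA7.pt (K := k) Ω)))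
    (hρ : ∀ (τ : Ω ≃ₐ[k] Ω) (z : AbDual.TateMod X l (SGA7.pt (K := k) Ω)) (m : ℕ),
      (AbDual.TateMod.component X l (SGA7.pt (K := k) Ω) m (ρ τ z)).toMul =
        SGA7.galAct τ (AbDual.TateMod.component X l (SGA7.pt (K := k) Ω) m z).toMul)
    (W : Submodule ℚ_[l] (ℚ_[l] ⊗[ℤ_[l]] AbDual.TateMod X l (SGA7.pt (K := k) Ω)))
    (hW : ∀ τ : Ω ≃ₐ[k] Ω, W.map ((ρ τ).baseChange ℚ_[l]) ≤ W) :
    ∃ W' : Submodule ℚ_[l] (ℚ_[l] ⊗[ℤ_[l]] AbDual.TateMod X l (SGA7.pt (K := k) Ω)),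
      IsCompl W W' ∧ ∀ τ : Ω ≃ₐ[k] Ω, W'.map ((ρ τ).baseChange ℚ_[l]) ≤ W' := by
  haveI := isSemisimpleRing_range Ω (l := l) (X := X)
  obtain ⟨u, hu, rfl⟩ := exists_end_of_subspace hl X hFin ρ hρ W hW
  rw [← range_ratRepL, Subalgebra.mem_toSubmodule] at hu
  obtain ⟨e, he, hid, hr⟩ := exists_idempotent _ hu
  refine ⟨LinearMap.ker e, hr ▸ (LinearMap.IsIdempotentElem.isCompl hid), fun τ => ?_⟩
  have hcomm : ((ρ τ).baseChange ℚ_[l]) * e = e * (ρ τ).baseChange ℚ_[l] := by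
    rw [← Subalgebra.mem_toSubmodule, range_ratRepL] at he
    clear hid hr
    induction he using Submodule.span_induction with
    | mem x hx =>
      obtain ⟨f, hf, rfl⟩ := hx
      rw [← LinearMap.baseChange_mul, ← LinearMap.baseChange_mul]
      refine congrArg (LinearMap.baseChange ℚ_[l]) (LinearMap.ext fun z => AbDual.TateMod.ext fun m => ?_)
      refine Additive.toMul.injective ((hρ τ _ m).trans ?_)
      show SGA7.specAut τ ≫ _ ≫ f = _ ≫ f
      rw [← Category.assoc]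
      exact congrArg (fun w => w ≫ f) (hρ τ z m).symm
    | zero => rw [mul_zero, zero_mul]
    | add a b _ _ ha hb => rw [mul_add, add_mul, ha, hb]
    | smul r a _ ha => rw [mul_smul_comm, smul_mul_assoc, ha]
  rintro _ ⟨x, hx, rfl⟩
  show e ((ρ τ).baseChange ℚ_[l] x) = 0
  rw [← Module.End.mul_apply, ← hcomm, Module.End.mul_apply, LinearMap.mem_ker.1 hx, map_zero]

omit [IsAlgClosure k Ω] [IsProper X.hom] [GeometricallyIntegral X.hom] in
/-- A Galois action on the square. -/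
theorem exists_rho_prod (ρ : (Ω ≃ₐ[k] Ω) → Module.End ℤ_[l] (AbDual.TateMod X l (SGA7.pt (K := k) Ω)))
    (hρ : ∀ (τ : Ω ≃ₐ[k] Ω) (z : AbDual.TateMod X l (SGA7.pt (K := k) Ω)) (m : ℕ),
      (AbDual.TateMod.component X l (SGA7.pt (K := k) Ω) m (ρ τ z)).toMul =
        SGA7.galAct τ (AbDual.TateMod.component X l (SGA7.pt (K := k) Ω) m z).toMul) :
    ∃ ρ₂ : (Ω ≃ₐ[k] Ω) → Module.End ℤ_[l] (AbDual.TateMod (X ⊗ X) l (SGA7.pt (K := k) Ω)),
      (∀ (τ : Ω ≃ₐ[k] Ω) (z : AbDual.TateMod (X ⊗ X) l (SGA7.pt (K := k) Ω)) (m : ℕ),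
        (AbDual.TateMod.component (X ⊗ X) l (SGA7.pt (K := k) Ω) m (ρ₂ τ z)).toMul =
          SGA7.galAct τ (AbDual.TateMod.component (X ⊗ X) l (SGA7.pt (K := k) Ω) m z).toMul) ∧
      ∀ τ z, AbDual.tateMapₗ (l := l) (T := SGA7.pt (K := k) Ω) (fst X X) (ρ₂ τ z) =
          ρ τ (AbDual.tateMapₗ (l := l) (T := SGA7.pt (K := k) Ω) (fst X X) z) ∧
        AbDual.tateMapₗ (l := l) (T := SGA7.pt (K := k) Ω) (snd X X) (ρ₂ τ z) =
          ρ τ (AbDual.tateMapₗ (l := l) (T := SGA7.pt (K := k) Ω) (snd X X) z) := by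
  let E := tateProd (l := l) (A := X) (B := X) (T := SGA7.pt (K := k) Ω)
  have hE : ∀ τ z, (E ((E.symm.toLinearMap ∘ₗ ((ρ τ).prodMap (ρ τ)) ∘ₗ E.toLinearMap) z)) =
      ((ρ τ).prodMap (ρ τ)) (E z) := fun τ z => E.apply_symm_apply _
  refine ⟨fun τ => E.symm.toLinearMap ∘ₗ ((ρ τ).prodMap (ρ τ)) ∘ₗ E.toLinearMap, fun τ z m => ?_,
    fun τ z => ⟨congrArg Prod.fst (hE τ z), congrArg Prod.snd (hE τ z)⟩⟩
  apply CartesianMonoidalCategory.hom_ext
  · refine (congrArg (fun w => (AbDual.TateMod.component X l _ m w).toMul) (congrArg Prod.fst (hE τ z))).trans ?_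
    exact (hρ τ _ m).trans (Category.assoc _ _ _).symm
  · refine (congrArg (fun w => (AbDual.TateMod.component X l _ m w).toMul) (congrArg Prod.snd (hE τ z))).trans ?_
    exact (hρ τ _ m).trans (Category.assoc _ _ _).symm

/-- The commutant of the Galois action. -/
theorem mem_span_of_commute (hl : (l : k) ≠ 0) (hFin : FinIsog l (X ⊗ X))
    [Module.Free ℤ_[l] (AbDual.TateMod X l (SGA7.pt (K := k) Ω))]
    [Module.Finite ℤ_[l] (AbDual.TateMod X l (SGA7.pt (K := k) Ω))]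
    (ρ : (Ω ≃ₐ[k] Ω) → Module.End ℤ_[l] (AbDual.TateMod X l (SGA7.pt (K := k) Ω)))
    (hρ : ∀ (τ : Ω ≃ₐ[k] Ω) (z : AbDual.TateMod X l (SGA7.pt (K := k) Ω)) (m : ℕ),
      (AbDual.TateMod.component X l (SGA7.pt (K := k) Ω) m (ρ τ z)).toMul =
        SGA7.galAct τ (AbDual.TateMod.component X l (SGA7.pt (K := k) Ω) m z).toMul)
    (φ : Module.End ℚ_[l] (ℚ_[l] ⊗[ℤ_[l]] AbDual.TateMod X l (SGA7.pt (K := k) Ω)))
    (hφ : ∀ τ : Ω ≃ₐ[k] Ω, φ ∘ₗ (ρ τ).baseChange ℚ_[l] = (ρ τ).baseChange ℚ_[l] ∘ₗ φ) :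
    φ ∈ Submodule.span ℚ_[l] {ψ : Module.End ℚ_[l] (ℚ_[l] ⊗[ℤ_[l]] AbDual.TateMod X l (SGA7.pt (K := k) Ω)) |
          ∃ (f : X ⟶ X) (_ : IsMonHom f), ψ = (AbDual.tateMapₗ (l := l) (T := SGA7.pt (K := k) Ω) f).baseChange ℚ_[l]} := by
  haveI := isSemisimpleRing_range Ω (l := l) (X := X)
  rw [← range_ratRepL, Subalgebra.mem_toSubmodule]
  refine mem_of_commute_commutant _ φ fun c hc => ?_
  haveI : IsProper (X ⊗ X).hom := inferInstanceAs (IsProper (Limits.pullback.fst X.hom X.hom ≫ X.hom))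
  haveI : GeometricallyIntegral (X ⊗ X).hom :=
    W7Cube.geometricallyIntegral_prod (IsPullback.of_hasPullback X.hom X.hom) (X ⊗ X).hom rfl
  haveI := Module.Free.of_equiv (tateProd (l := l) (A := X) (B := X) (T := SGA7.pt (K := k) Ω)).symm
  haveI := Module.Finite.equiv (tateProd (l := l) (A := X) (B := X) (T := SGA7.pt (K := k) Ω)).symm
  obtain ⟨ρ₂, hρ₂, hρ₂'⟩ := exists_rho_prod Ω ρ hρ
  let i₁ : X ⟶ X ⊗ X := lift (𝟙 X) 1
  let i₂ : X ⟶ X ⊗ X := lift 1 (𝟙 X)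
  let P₁ := (AbDual.tateMapₗ (l := l) (T := SGA7.pt (K := k) Ω) (fst X X)).baseChange ℚ_[l]
  let P₂ := (AbDual.tateMapₗ (l := l) (T := SGA7.pt (K := k) Ω) (snd X X)).baseChange ℚ_[l]
  let I₁ := (AbDual.tateMapₗ (l := l) (T := SGA7.pt (K := k) Ω) i₁).baseChange ℚ_[l]
  let I₂ := (AbDual.tateMapₗ (l := l) (T := SGA7.pt (K := k) Ω) i₂).baseChange ℚ_[l]
  have h11 : P₁ ∘ₗ I₁ = LinearMap.id := by
    rw [← LinearMap.baseChange_comp, ← tateMapₗ_comp', tateMapₗ_congr _ (𝟙 X) (lift_fst _ _), tateMapₗ_id,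
      LinearMap.baseChange_id]
  have h22 : P₂ ∘ₗ I₂ = LinearMap.id := by
    rw [← LinearMap.baseChange_comp, ← tateMapₗ_comp', tateMapₗ_congr _ (𝟙 X) (lift_snd _ _), tateMapₗ_id,
      LinearMap.baseChange_id]
  have h12 : P₁ ∘ₗ I₂ = 0 := by
    rw [← LinearMap.baseChange_comp, ← tateMapₗ_comp', tateMapₗ_congr _ 1 (lift_fst _ _), tateMapₗ_one,
      LinearMap.baseChange_zero]
  have h21 : P₂ ∘ₗ I₁ = 0 := by
    rw [← LinearMap.baseChange_comp, ← tateMapₗ_comp', tateMapₗ_congr _ 1 (lift_snd _ _), tateMapₗ_one,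
      LinearMap.baseChange_zero]
  have hsum : ∀ x, I₁ (P₁ x) + I₂ (P₂ x) = x := by
    intro x
    haveI : IsMonHom ((fst X X ≫ i₁) * (snd X X ≫ i₂)) := by rw [Hom.mul_def]; infer_instance
    have e : I₁ ∘ₗ P₁ + I₂ ∘ₗ P₂ = LinearMap.id := by
      rw [← LinearMap.baseChange_comp, ← LinearMap.baseChange_comp, ← LinearMap.baseChange_add, ← tateMapₗ_comp',
        ← tateMapₗ_comp', ← tateMapₗ_mul, tateMapₗ_congr _ (𝟙 (X ⊗ X)) (by
          apply CartesianMonoidalCategory.hom_ext <;> simp [i₁, i₂, MonObj.mul_comp]),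
        tateMapₗ_id, LinearMap.baseChange_id]
    exact LinearMap.congr_fun e x
  let W := LinearMap.ker (φ ∘ₗ P₁ - P₂)
  have hW : ∀ τ, W.map ((ρ₂ τ).baseChange ℚ_[l]) ≤ W := by
    rintro τ _ ⟨x, hx, rfl⟩
    have e1 : P₁ ∘ₗ (ρ₂ τ).baseChange ℚ_[l] = (ρ τ).baseChange ℚ_[l] ∘ₗ P₁ := by
      rw [← LinearMap.baseChange_comp, ← LinearMap.baseChange_comp]
      exact congrArg (LinearMap.baseChange ℚ_[l]) (LinearMap.ext fun z => (hρ₂' τ z).1)
    have e2 : P₂ ∘ₗ (ρ₂ τ).baseChange ℚ_[l] = (ρ τ).baseChange ℚ_[l] ∘ₗ P₂ := by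
      rw [← LinearMap.baseChange_comp, ← LinearMap.baseChange_comp]
      exact congrArg (LinearMap.baseChange ℚ_[l]) (LinearMap.ext fun z => (hρ₂' τ z).2)
    have hx' : φ (P₁ x) = P₂ x := sub_eq_zero.1 hx
    refine LinearMap.mem_ker.2 (sub_eq_zero.2 ?_)
    show φ (P₁ _) = P₂ _
    rw [← LinearMap.comp_apply P₁, e1, ← LinearMap.comp_apply P₂, e2, LinearMap.comp_apply, LinearMap.comp_apply,
      ← LinearMap.comp_apply φ, hφ τ, LinearMap.comp_apply, hx']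
  obtain ⟨u, hu, hrange⟩ := exists_end_of_subspace hl (X ⊗ X) hFin ρ₂ hρ₂ W hW
  let C := I₁ ∘ₗ c ∘ₗ P₁ + I₂ ∘ₗ c ∘ₗ P₂
  have hCdef : C = I₁ ∘ₗ c ∘ₗ P₁ + I₂ ∘ₗ c ∘ₗ P₂ := rfl
  have hcE : ∀ (f : X ⟶ X) (_ : IsMonHom f), ∀ v,
      (AbDual.tateMapₗ (l := l) (T := SGA7.pt (K := k) Ω) f).baseChange ℚ_[l] (c v) =
        c ((AbDual.tateMapₗ (l := l) (T := SGA7.pt (K := k) Ω) f).baseChange ℚ_[l] v) := fun f hf v =>
    LinearMap.congr_fun (hc _ (by
      rw [← Subalgebra.mem_toSubmodule, range_ratRepL]; exact Submodule.subset_span ⟨f, hf, rfl⟩)) v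
  have hCu : C * u = u * C := by
    clear hrange
    clear_value C
    induction hu using Submodule.span_induction with
    | mem y hy =>
      obtain ⟨F, hF, rfl⟩ := hy
      refine LinearMap.ext fun x => ?_
      have comp3 : ∀ {Y Z : Over (Spec (CommRingCat.of k))} [GrpObj Y] [IsCommMonObj Y] [GrpObj Z] [IsCommMonObj Z]
          (a : Y ⟶ X ⊗ X) [IsMonHom a] (b : X ⊗ X ⟶ Z) [IsMonHom b] (w),
          (AbDual.tateMapₗ (l := l) (T := SGA7.pt (K := k) Ω) b).baseChange ℚ_[l]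
            ((AbDual.tateMapₗ (l := l) (T := SGA7.pt (K := k) Ω) F).baseChange ℚ_[l]
              ((AbDual.tateMapₗ (l := l) (T := SGA7.pt (K := k) Ω) a).baseChange ℚ_[l] w)) =
            (AbDual.tateMapₗ (l := l) (T := SGA7.pt (K := k) Ω) (a ≫ F ≫ b)).baseChange ℚ_[l] w := by
        intro Y Z _ _ _ _ a _ b _ w
        rw [tateMapₗ_comp', tateMapₗ_comp', LinearMap.baseChange_comp, LinearMap.baseChange_comp]
        rfl
      set G := (AbDual.tateMapₗ (l := l) (T := SGA7.pt (K := k) Ω) F).baseChange ℚ_[l]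
      rw [hCdef]
      show I₁ (c (P₁ (G x))) + I₂ (c (P₂ (G x))) = G (I₁ (c (P₁ x)) + I₂ (c (P₂ x)))
      have hx := hsum x
      have k1 : c (P₁ (G x)) = P₁ (G (I₁ (c (P₁ x)))) + P₁ (G (I₂ (c (P₂ x)))) := by
        conv_lhs => rw [← hx, map_add, map_add, map_add, comp3 i₁ (fst X X), comp3 i₂ (fst X X)]
        rw [comp3 i₁ (fst X X), comp3 i₂ (fst X X), hcE _ inferInstance, hcE _ inferInstance]
      have k2 : c (P₂ (G x)) = P₂ (G (I₁ (c (P₁ x)))) + P₂ (G (I₂ (c (P₂ x)))) := by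
        conv_lhs => rw [← hx, map_add, map_add, map_add, comp3 i₁ (snd X X), comp3 i₂ (snd X X)]
        rw [comp3 i₁ (snd X X), comp3 i₂ (snd X X), hcE _ inferInstance, hcE _ inferInstance]
      rw [k1, k2, ← map_add P₁, ← map_add P₂, hsum, map_add]
    | zero => rw [mul_zero, zero_mul]
    | add a b _ _ ha hb => rw [mul_add, add_mul, ha, hb]
    | smul r a _ ha => rw [mul_smul_comm, smul_mul_assoc, ha]
  have a11 : ∀ y, P₁ (I₁ y) = y := LinearMap.congr_fun h11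
  have a22 : ∀ y, P₂ (I₂ y) = y := LinearMap.congr_fun h22
  have a12 : ∀ y, P₁ (I₂ y) = 0 := LinearMap.congr_fun h12
  have a21 : ∀ y, P₂ (I₁ y) = 0 := LinearMap.congr_fun h21
  refine LinearMap.ext fun v => ?_
  have hw : I₁ v + I₂ (φ v) ∈ W := LinearMap.mem_ker.2 (sub_eq_zero.2 (by
    show φ (P₁ _) = P₂ _
    simp [map_add, a11, a12, a21, a22]))
  obtain ⟨x, hx⟩ := hrange.ge hw
  have hCw : C (I₁ v + I₂ (φ v)) ∈ W := by
    rw [← hx, ← Module.End.mul_apply, hCu, Module.End.mul_apply]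
    exact hrange.le ⟨_, rfl⟩
  have hC1 : C (I₁ v + I₂ (φ v)) = I₁ (c v) + I₂ (c (φ v)) := by
    show I₁ (c (P₁ _)) + I₂ (c (P₂ _)) = _
    simp [map_add, a11, a12, a21, a22]
  rw [hC1] at hCw
  have hk := sub_eq_zero.1 (LinearMap.mem_ker.1 hCw)
  simp only [LinearMap.comp_apply, map_add] at hk
  simp [a11, a12, a21, a22] at hk
  exact hk

end Main

end Groth.Agent.AVQuot
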