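import Groth.Agent.GrpAct.Groupoid
import Groth.Agent.Grpd.SheafQuot
import Groth.Agent.CoverMap.Group

/-!
# Quotient of a commutative group scheme by a finite locally free subgroup

The only affineness input is a homomorphism with affine underlying morphism killing the subgroup
(for instance multiplication by an integer on an abelian variety).
-/

set_option autoImplicit false
set_option backward.isDefEq.respectTransparency false

universe u

open CategoryTheory CategoryTheory.Limits MonoidalCategory CartesianMonoidalCategory MonObj GrpObj AlgebraicGeometry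

namespace Groth.Agent.AVQuot

variable {S : Scheme.{u}} {G H : Over S} [GrpObj G] [GrpObj H] (u : H ⟶ G) [IsMonHom u]

/-- translation action of a subgroup -/
noncomputable def subAct : AlgGrp.Action H G where
  act := (u ▷ G) ≫ μ[G]
  one_act := by
    rw [← Category.assoc, ← MonoidalCategory.comp_whiskerRight, IsMonHom.one_hom u, MonObj.one_mul]
  mul_act := by
    have hp : ∀ {T : Over S} (h : T ⟶ H) (x : T ⟶ G), lift h x ≫ (u ▷ G) ≫ μ[G] = (h ≫ u) * x := by
      intro T h x
      rw [← Category.assoc, lift_whiskerRight, Hom.mul_def]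
    have hμ : μ[H] ▷ G = lift ((fst _ _ ≫ fst H H) * (fst _ _ ≫ snd H H)) (snd (H ⊗ H) G) := by
      rw [← MonObj.comp_mul, ← show μ[H] = fst H H * snd H H by rw [Hom.mul_def, lift_fst_snd, Category.id_comp]]
      apply CartesianMonoidalCategory.hom_ext <;> simp
    have hα : (α_ H H G).hom ≫ (H ◁ ((u ▷ G) ≫ μ[G])) =
        lift (fst _ _ ≫ fst H H) ((fst _ _ ≫ snd H H ≫ u) * snd (H ⊗ H) G) := by
      apply CartesianMonoidalCategory.hom_ext
      · simp
      · rw [lift_snd, Category.assoc, whiskerLeft_snd]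
        rw [show (α_ H H G).hom ≫ snd H (H ⊗ G) ≫ (u ▷ G) ≫ μ[G] =
          lift (fst (H ⊗ H) G ≫ snd H H) (snd (H ⊗ H) G) ≫ (u ▷ G) ≫ μ[G] by
            rw [← Category.assoc]
            congr 1
            apply CartesianMonoidalCategory.hom_ext <;> simp, hp, Category.assoc]
    rw [← Category.assoc (α_ H H G).hom, hμ, hα, hp, hp, MonObj.mul_comp, _root_.mul_assoc,
      Category.assoc, Category.assoc]

variable {u} in
theorem lift_subAct {T : Over S} (h : T ⟶ H) (x : T ⟶ G) :
    lift h x ≫ (subAct u).act = (h ≫ u) * x := by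
  show lift h x ≫ (u ▷ G) ≫ μ[G] = _
  rw [← Category.assoc, lift_whiskerRight, Hom.mul_def]

/-- Existence of the quotient group. -/
theorem exists_quot [IsCommMonObj G] [Mono u] [IsFinite H.hom] [Flat H.hom]
    [LocallyOfFinitePresentation H.hom] {G' : Over S} [GrpObj G'] (n : G ⟶ G') [IsMonHom n]
    [IsAffineHom n.left] (hn : u ≫ n = 1) :
    ∃ (Y : Over S) (_ : GrpObj Y) (_ : IsCommMonObj Y) (q : G ⟶ Y),
      IsMonHom q ∧ IsFinite q.left ∧ Flat q.left ∧ LocallyOfFinitePresentation q.left ∧
        Surjective q.left ∧ IsPullback ((G ◁ u) ≫ μ[G]) (fst G H) q q ∧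
        (IsSeparated G.hom → IsSeparated Y.hom) := by
  let a := subAct u
  let Gr := GrpAct.groupoid a
  have hfree : ∀ (T : Over S) (g : T ⟶ H) (x : T ⟶ G), lift g x ≫ a.act = x → g = toUnit T ≫ η[H] := by
    intro T g x h
    rw [lift_subAct, mul_eq_right] at h
    rw [← Hom.one_def, ← cancel_mono u, MonObj.one_comp, h]
  have : Mono Gr.j := by
    have hm := (GrpAct.mono_graph_iff a).mp hfree
    exact inferInstanceAs (Mono ((Over.forget S).map (lift a.act (snd H G))))
  have hs : Gr.s = pullback.snd H.hom G.hom := rfl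
  have : IsFinite Gr.s := by rw [hs]; exact MorphismProperty.pullback_snd (P := @IsFinite) _ _ ‹_›
  have : Flat Gr.s := by rw [hs]; exact MorphismProperty.pullback_snd (P := @Flat) _ _ ‹_›
  have : LocallyOfFinitePresentation Gr.s := by
    rw [hs]; exact MorphismProperty.pullback_snd (P := @LocallyOfFinitePresentation) _ _ ‹_›
  have hinv : a.act ≫ n = snd H G ≫ n := by
    have e : a.act = (fst H G ≫ u) * snd H G := by
      rw [← lift_subAct, lift_fst_snd, Category.id_comp]
    rw [e, MonObj.mul_comp, Category.assoc, hn, MonObj.comp_one, _root_.one_mul]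
  have hO : GrpdLib.OrbitsAffine Gr := by
    intro x
    obtain ⟨W, hW, hxW, -⟩ := exists_isAffineOpen_mem_and_subset (U := ⊤) (x := n.left x) trivial
    refine ⟨n.left ⁻¹ᵁ W, hW.preimage n.left, ?_⟩
    rintro _ ⟨r, hr, rfl⟩
    change (Gr.t ≫ n.left) r ∈ W
    have e : Gr.t ≫ n.left = Gr.s ≫ n.left := congrArg CommaMorphism.left hinv
    rw [e]
    change n.left (Gr.s r) ∈ W
    rw [show Gr.s r = x from hr]
    exact hxW
  obtain ⟨M, m, ⟨hmf, hmfl, hmp⟩, hpb, hq⟩ := GrpdLib.exists_quotient_fppf hO
  let q : G ⟶ M := Over.homMk m.left (Over.w m)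
  have hsurj : Surjective m.left := QuotShLib.fppf_of_isQuotient_surjective hq
  have hpbO : IsPullback a.act (snd H G) q q :=
    IsPullback.of_map_of_faithful (Over.forget S) hpb
  have hsq : IsPullback ((G ◁ u) ≫ μ[G]) (fst G H) q q := by
    refine hpbO.of_iso (β_ H G) (Iso.refl _) (Iso.refl _) (Iso.refl _) ?_ ?_ (by simp) (by simp)
    · simp only [Iso.refl_hom, Category.comp_id]
      show (u ▷ G) ≫ μ[G] = _
      rw [← BraidedCategory.braiding_naturality_left_assoc, IsCommMonObj.mul_comm]
    · simp only [Iso.refl_hom, Category.comp_id, braiding_hom_fst]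
  have hqc : CoverMap.Covers q.left := by
    have : IsFinite q.left := hmf
    have : Flat q.left := hmfl
    refine CoverMap.covers_of_hcov ⟨_, q.left, 𝟙 _, Category.id_comp _, hsurj, hmfl, fun V hV => ?_⟩
    exact ⟨q.left ⁻¹ᵁ V, (hV.preimage q.left).isCompact, Set.image_preimage_eq _ hsurj.surj⟩
  have hN : AlgGrp.IsNormalHom u := fun T g h => ⟨h, by
    rw [mul_comm g, _root_.mul_assoc, mul_inv_cancel, _root_.mul_one]⟩
  obtain ⟨s, hqm, -⟩ := CoverMap.exists_grpObj hsq hqc hN
  letI := s
  have : IsMonHom q := hqm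
  have hcomm : IsCommMonObj M := by
    refine ⟨?_⟩
    have : Epi (q ⊗ₘ q) := CoverMap.epi_over (CoverMap.covers_tensorHom hqc hqc)
    rw [← cancel_epi (q ⊗ₘ q), BraidedCategory.braiding_naturality_assoc, ← IsMonHom.mul_hom q,
      IsCommMonObj.mul_comm_assoc]
  refine ⟨M, s, hcomm, q, hqm, hmf, hmfl, hmp, hsurj, hsq, fun hsep => ?_⟩
  exact (GrpdLib.separation_of_quotient (G := Gr) m hpb).1 hsep

end Groth.Agent.AVQuot
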