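import Groth.Agent.AVQuot.AV
import Groth.Prelude.Def_AbDual
import Groth.Prelude.Def_SGA7a
import Mathlib.NumberTheory.Padics.ProperSpace
import Mathlib.RingTheory.Filtration
import Mathlib.RingTheory.TensorProduct.Finite
import Mathlib.Topology.Sequences

/-!
# Tate's argument: Galois stable lattices come from endomorphisms, given finiteness
-/

set_option autoImplicit false
set_option backward.isDefEq.respectTransparency false
set_option linter.style.haveILetI false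
set_option maxHeartbeats 1000000

universe u

open CategoryTheory MonoidalCategory CartesianMonoidalCategory MonObj GrpObj AlgebraicGeometry
open Filter Topology
open scoped TensorProduct

noncomputable section

namespace Groth.Agent.AVQuot

variable {l : ℕ} [Fact l.Prime]

section Formal

variable {S : Scheme.{u}} {A B C : Over S} [GrpObj A] [IsCommMonObj A] [GrpObj B] [IsCommMonObj B]
  [GrpObj C] [IsCommMonObj C] {T : Over S}

local notation "Tf" => AbDual.tateMapₗ (l := l) (T := T)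

theorem tateMapₗ_component (f : A ⟶ B) [IsMonHom f] (z : AbDual.TateMod A l T) (m : ℕ) :
    (AbDual.TateMod.component B l T m (Tf f z)).toMul = (AbDual.TateMod.component A l T m z).toMul ≫ f := rfl

theorem tateMapₗ_comp (f : A ⟶ B) [IsMonHom f] (g : B ⟶ C) [IsMonHom g] (z : AbDual.TateMod A l T) :
    Tf (f ≫ g) z = Tf g (Tf f z) :=
  AbDual.TateMod.ext fun _ => congrArg Additive.ofMul (Category.assoc _ _ _).symm

theorem component_natCast_smul (n : ℕ) (z : AbDual.TateMod A l T) (m : ℕ) :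
    AbDual.TateMod.component A l T m ((n : ℤ_[l]) • z) = n • AbDual.TateMod.component A l T m z := by
  rw [Nat.cast_smul_eq_nsmul, map_nsmul]

theorem tateMapₗ_pow_id (f : A ⟶ A) [IsMonHom f] (n : ℕ) (hf : f = (𝟙 A) ^ n) (z : AbDual.TateMod A l T) :
    Tf f z = (n : ℤ_[l]) • z := by
  refine AbDual.TateMod.ext fun m => ?_
  show _ = AbDual.TateMod.component A l T m ((n : ℤ_[l]) • z)
  rw [component_natCast_smul]
  show Additive.ofMul ((AbDual.TateMod.component A l T m z).toMul ≫ f) = _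
  rw [hf, MonObj.comp_pow, Category.comp_id]
  rfl

/-- A sequence with vanishing `m`-th component is divisible by `l ^ m`. -/
theorem exists_smul_of_component_eq_zero (z : AbDual.TateMod A l T) (m : ℕ)
    (h : AbDual.TateMod.component A l T m z = 0) : ∃ w : AbDual.TateMod A l T, ((l : ℤ_[l]) ^ m) • w = z := by
  have hshift : ∀ i j, (l ^ j) • (z : ℕ → Additive (T ⟶ A)) (j + i) = (z : ℕ → Additive (T ⟶ A)) i := by
    intro i j
    induction j with
    | zero => rw [pow_zero, one_smul, zero_add]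
    | succ j ih => rw [pow_succ, mul_nsmul', show j + 1 + i = (j + i) + 1 by omega, z.compat, ih]
  refine ⟨⟨fun j => (z : ℕ → Additive (T ⟶ A)) (j + m), ⟨fun j => ?_, fun j => ?_⟩⟩, AbDual.TateMod.ext fun j => ?_⟩
  · rw [hshift m j]; exact h
  · show l • (z : ℕ → Additive (T ⟶ A)) (j + 1 + m) = (z : ℕ → Additive (T ⟶ A)) (j + m)
    rw [show j + 1 + m = (j + m) + 1 by omega, z.compat]
  · refine Eq.trans (b := AbDual.TateMod.component A l T j (((l : ℤ_[l]) ^ m) • _)) rfl ?_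
    rw [← Nat.cast_pow, component_natCast_smul]
    show (l ^ m) • (z : ℕ → Additive (T ⟶ A)) (j + m) = _
    rw [add_comm j m, hshift j m]

/-- The image of the quasi-inverse of a quotient map on Tate modules. -/
theorem exists_tateMap_eq [IsAddTorsionFree (AbDual.TateMod A l T)] (q : A ⟶ B) [IsMonHom q] (v : B ⟶ A) [IsMonHom v]
    (m : ℕ) (hqv : q ≫ v = (𝟙 A) ^ (l ^ m)) (hvq : v ≫ q = (𝟙 B) ^ (l ^ m)) (z : AbDual.TateMod A l T)
    (hz : (AbDual.TateMod.component A l T m z).toMul ≫ q = 1) : ∃ y, Tf v y = z := by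
  obtain ⟨y, hy⟩ := exists_smul_of_component_eq_zero (Tf q z) m (congrArg Additive.ofMul hz)
  refine ⟨y, ?_⟩
  have h1 : Tf q (Tf v y) = Tf q z := by
    rw [← tateMapₗ_comp, tateMapₗ_pow_id (v ≫ q) _ hvq, Nat.cast_pow, hy]
  have h2 : (l ^ m) • Tf v y = (l ^ m) • z := by
    rw [← Nat.cast_smul_eq_nsmul ℤ_[l], ← Nat.cast_smul_eq_nsmul ℤ_[l], ← tateMapₗ_pow_id (q ≫ v) _ hqv,
      ← tateMapₗ_pow_id (q ≫ v) _ hqv, tateMapₗ_comp, tateMapₗ_comp, h1]
  exact nsmul_right_injective (pow_ne_zero m (Fact.out : l.Prime).ne_zero) h2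

end Formal

section Algebra

/-- Membership can be tested modulo all powers of `l`. -/
theorem mem_of_forall_mem_sup {M : Type*} [AddCommGroup M] [Module ℤ_[l] M] [Module.Finite ℤ_[l] M]
    (L : Submodule ℤ_[l] M) (x : M) (h : ∀ n : ℕ, ∃ y ∈ L, ∃ z, x = y + ((l : ℤ_[l]) ^ n) • z) : x ∈ L := by
  rw [← Submodule.Quotient.mk_eq_zero, ← Submodule.mkQ_apply, ← Submodule.mem_bot ℤ_[l],
    ← Ideal.iInf_pow_smul_eq_bot_of_isLocalRing (M := M ⧸ L) (IsLocalRing.maximalIdeal ℤ_[l])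
      (IsLocalRing.maximalIdeal.isMaximal _).ne_top, Submodule.mem_iInf]
  intro n
  obtain ⟨y, hy, z, rfl⟩ := h n
  rw [map_add, Submodule.mkQ_apply L y, (Submodule.Quotient.mk_eq_zero L).2 hy, zero_add, map_smul]
  refine Submodule.smul_mem_smul (Ideal.pow_mem_pow ?_ n) Submodule.mem_top
  rw [PadicInt.maximalIdeal_eq_span_p]
  exact Ideal.mem_span_singleton_self _

/-- Sequences in a finitely generated module have `l`-adic cluster points. -/
theorem exists_cluster {M : Type*} [AddCommGroup M] [Module ℤ_[l] M] [Module.Finite ℤ_[l] M] (x : ℕ → M) :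
    ∃ a : M, ∀ n : ℕ, ∃ i, n ≤ i ∧ ∃ z, x i = a + ((l : ℤ_[l]) ^ n) • z := by
  obtain ⟨d, π, hπ⟩ := Module.Finite.exists_fin' ℤ_[l] M
  choose c hc using fun i => hπ (x i)
  obtain ⟨c₀, φ, hφ, hlim⟩ := CompactSpace.tendsto_subseq c
  refine ⟨π c₀, fun n => ?_⟩
  have hpos : (0 : ℝ) < (l : ℝ) ^ (-(n : ℤ)) := zpow_pos (by exact_mod_cast (Fact.out : l.Prime).pos) _
  obtain ⟨i, hi, hin⟩ := ((Metric.tendsto_nhds.1 hlim _ hpos).and (eventually_ge_atTop n)).exists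
  have hz : ∀ j : Fin d, ∃ z, c (φ i) j - c₀ j = ((l : ℤ_[l]) ^ n) * z := fun j => by
    have h1 : ‖c (φ i) j - c₀ j‖ ≤ (l : ℝ) ^ (-(n : ℤ)) := by
      rw [← dist_eq_norm]
      exact (dist_le_pi_dist _ _ j).trans hi.le
    exact Ideal.mem_span_singleton.1 ((PadicInt.norm_le_pow_iff_mem_span_pow _ n).1 h1)
  choose z hz using hz
  refine ⟨φ i, hin.trans hφ.le_apply, π z, ?_⟩
  have e : c (φ i) = c₀ + ((l : ℤ_[l]) ^ n) • z := funext fun j => by
    rw [Pi.add_apply, Pi.smul_apply, smul_eq_mul, ← hz j, add_sub_cancel]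
  rw [← map_smul, ← map_add, ← e, hc]

end Algebra

section Tate

variable {k Ω : Type u} [Field k] [Field Ω] [Algebra k Ω] [IsAlgClosure k Ω]

/-- The span of the maps induced by endomorphisms. -/
abbrev endSpan (l : ℕ) [Fact l.Prime] (X : Over (Spec (CommRingCat.of k))) [GrpObj X] [IsCommMonObj X] :
    Submodule ℤ_[l] (Module.End ℤ_[l] (AbDual.TateMod X l (SGA7.pt (K := k) Ω))) :=
  Submodule.span ℤ_[l] {ψ | ∃ (f : X ⟶ X) (_ : IsMonHom f), ψ = AbDual.tateMapₗ (l := l) (T := SGA7.pt (K := k) Ω) f}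

/-- The finiteness condition of Tate. -/
abbrev FinIsog (l : ℕ) (X : Over (Spec (CommRingCat.of k))) [GrpObj X] [IsCommMonObj X] : Prop :=
  ∃ (J : Type u) (_ : Finite J) (F : J → Over (Spec (CommRingCat.of k))),
    ∀ (Y : Over (Spec (CommRingCat.of k))) [GrpObj Y] [IsCommMonObj Y] [IsProper Y.hom] [GeometricallyIntegral Y.hom]
      (u : X ⟶ Y) [IsMonHom u] (v : Y ⟶ X) [IsMonHom v] (m : ℕ),
      u ≫ v = (𝟙 X) ^ (l ^ m) → v ≫ u = (𝟙 Y) ^ (l ^ m) → ∃ i, Nonempty (Y ≅ F i)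

/-- Finiteness for the quotients by the even levels of a lattice. -/
abbrev FinQuot (l : ℕ) [Fact l.Prime] (X : Over (Spec (CommRingCat.of k))) [GrpObj X] [IsCommMonObj X]
    (L : Submodule ℤ_[l] (AbDual.TateMod X l (SGA7.pt (K := k) Ω))) : Prop :=
  ∃ (J : Type u) (_ : Finite J) (F : J → Over (Spec (CommRingCat.of k))),
    ∀ (Y : Over (Spec (CommRingCat.of k))) [GrpObj Y] [IsCommMonObj Y] [IsProper Y.hom] [GeometricallyIntegral Y.hom]
      (u : X ⟶ Y) [IsMonHom u] (v : Y ⟶ X) [IsMonHom v] (m : ℕ), Even m →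
      u ≫ v = (𝟙 X) ^ (l ^ m) → v ≫ u = (𝟙 Y) ^ (l ^ m) →
      (∀ x : SGA7.pt (K := k) Ω ⟶ X, x ≫ u = 1 ↔
        ∃ z ∈ L, (AbDual.TateMod.component X l (SGA7.pt (K := k) Ω) m z).toMul = x) → ∃ i, Nonempty (Y ≅ F i)

/-- Galois stable sublattices agree up to bounded index with the image of a limit of endomorphisms. -/
theorem exists_end_of_lattice' (hl : (l : k) ≠ 0) (X : Over (Spec (CommRingCat.of k)))
    [GrpObj X] [IsCommMonObj X] [IsProper X.hom] [GeometricallyIntegral X.hom] 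
    [Module.Free ℤ_[l] (AbDual.TateMod X l (SGA7.pt (K := k) Ω))]
    [Module.Finite ℤ_[l] (AbDual.TateMod X l (SGA7.pt (K := k) Ω))]
    (L : Submodule ℤ_[l] (AbDual.TateMod X l (SGA7.pt (K := k) Ω)))
    (hL : ∀ (τ : Ω ≃ₐ[k] Ω), ∀ z ∈ L, ∀ m, ∃ w ∈ L,
      (AbDual.TateMod.component X l (SGA7.pt (K := k) Ω) m w).toMul =
        SGA7.galAct τ (AbDual.TateMod.component X l (SGA7.pt (K := k) Ω) m z).toMul)
    (hFin : FinQuot l X L) :
    ∃ g ∈ endSpan (Ω := Ω) l X, LinearMap.range g ≤ L ∧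
      ∃ c : ℕ, ∀ w ∈ L, ((l : ℤ_[l]) ^ c) • w ∈ LinearMap.range g := by
  classical
  obtain ⟨J, hJ, F, hF⟩ := hFin
  haveI : IsAddTorsionFree (AbDual.TateMod X l (SGA7.pt (K := k) Ω)) := by
    refine ⟨fun n hn a b h => smul_right_injective _ (Nat.cast_ne_zero.2 hn : (n : ℤ_[l]) ≠ 0) ?_⟩
    simpa only [Nat.cast_smul_eq_nsmul] using h
  let K : ℕ → Subgroup (SGA7.pt (K := k) Ω ⟶ X) := fun m =>
    AddSubgroup.toSubgroup' (L.toAddSubgroup.map (AbDual.TateMod.component X l (SGA7.pt (K := k) Ω) m))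
  have hKmem : ∀ m x, x ∈ K m ↔ ∃ z ∈ L, (AbDual.TateMod.component X l (SGA7.pt (K := k) Ω) m z).toMul = x :=
    fun m x => ⟨fun ⟨z, hz, e⟩ => ⟨z, hz, congrArg Additive.toMul e⟩, fun ⟨z, hz, e⟩ => ⟨z, hz, congrArg Additive.ofMul e⟩⟩
  have hq : ∀ m, _ := fun m => exists_quot_av X (n := l ^ (2 * m)) (by rw [Nat.cast_pow]; exact pow_ne_zero _ hl)
    (K (2 * m))
    (fun x hx => by
      obtain ⟨z, -, rfl⟩ := (hKmem (2 * m) x).1 hx
      exact congrArg Additive.toMul (z.torsion (2 * m)))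
    (fun σ x hx => by
      obtain ⟨z, hz, rfl⟩ := (hKmem (2 * m) x).1 hx
      obtain ⟨w, hw, e⟩ := hL σ z hz (2 * m)
      exact (hKmem (2 * m) _).2 ⟨w, hw, e⟩)
  choose Y instG instC instP instI q v hqm hvm hqv hvq hker using hq
  choose idx hidx using fun m => @hF (Y m) (instG m) (instC m) (instP m) (instI m) (q m) (hqm m) (v m) (hvm m) (2 * m) (even_two_mul m) (hqv m) (hvq m) fun x => (hker m x).trans (hKmem (2 * m) x)
  obtain ⟨i₀, hi₀⟩ := Finite.exists_infinite_fiber idx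
  rw [Set.infinite_coe_iff] at hi₀
  obtain ⟨m₀, hm₀⟩ := hi₀.nonempty
  choose M hM hMn using fun n => hi₀.exists_gt n
  have hfib : ∀ n, idx (M n) = idx m₀ := fun n => (hM n).trans hm₀.symm
  have hiso : ∀ n, ∃ α : Y m₀ ≅ Y (M n), @IsMonHom _ _ _ _ _ (instG m₀).toMonObj (instG (M n)).toMonObj α.hom ∧
      @IsMonHom _ _ _ _ _ (instG (M n)).toMonObj (instG m₀).toMonObj α.inv := fun n => by
    letI := instG m₀; letI := instG (M n); haveI := instC (M n)
    haveI := instP m₀; haveI := instI m₀; haveI := instP (M n); haveI := instI (M n)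
    obtain ⟨e₁⟩ := hidx m₀
    obtain ⟨e₂⟩ := hidx (M n)
    exact exists_monHom_iso (e₁ ≪≫ eqToIso (congrArg F (hfib n).symm) ≪≫ e₂.symm)
  choose α hα hα' using hiso
  letI := instG m₀; haveI := instC m₀; haveI := hqm m₀; haveI := hvm m₀
  have key : ∀ n, ∃ g ∈ endSpan (Ω := Ω) l X, (∀ t, ∃ w ∈ L, ∃ z, g t = w + ((l : ℤ_[l]) ^ n) • z) ∧
      ∀ w ∈ L, ((l : ℤ_[l]) ^ (2 * m₀)) • w ∈ LinearMap.range g := by
    intro n
    letI := instG (M n); haveI := instC (M n); haveI := hqm (M n); haveI := hvm (M n); haveI := hα n; haveI := hα' n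
    let f : X ⟶ X := q m₀ ≫ (α n).hom ≫ v (M n)
    refine ⟨AbDual.tateMapₗ (l := l) (T := SGA7.pt (K := k) Ω) f, Submodule.subset_span ⟨f, inferInstance, rfl⟩,
      fun t => ?_, fun w hw => ?_⟩
    · let y := AbDual.tateMapₗ (l := l) (T := SGA7.pt (K := k) Ω) (α n).hom
        (AbDual.tateMapₗ (l := l) (T := SGA7.pt (K := k) Ω) (q m₀) t)
      have hft : AbDual.tateMapₗ (l := l) (T := SGA7.pt (K := k) Ω) f t =
          AbDual.tateMapₗ (l := l) (T := SGA7.pt (K := k) Ω) (v (M n)) y := by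
        rw [tateMapₗ_comp, tateMapₗ_comp]
      have hk : (AbDual.TateMod.component X l (SGA7.pt (K := k) Ω) (2 * M n)
          (AbDual.tateMapₗ (l := l) (T := SGA7.pt (K := k) Ω) f t)).toMul ≫ q (M n) = 1 := by
        rw [hft, tateMapₗ_component, Category.assoc, hvq, MonObj.comp_pow, Category.comp_id]
        exact congrArg Additive.toMul (y.torsion (2 * M n))
      obtain ⟨w, hw, e⟩ := (hKmem _ _).1 ((hker _ _).1 hk)
      obtain ⟨z, hz⟩ := exists_smul_of_component_eq_zero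
        (AbDual.tateMapₗ (l := l) (T := SGA7.pt (K := k) Ω) f t - w) (2 * M n) (by
          rw [map_sub, ← Additive.toMul.injective e, sub_self])
      refine ⟨w, hw, ((l : ℤ_[l]) ^ (2 * M n - n)) • z, ?_⟩
      rw [smul_smul, ← pow_add, Nat.add_sub_cancel' (by have := hMn n; omega), hz, add_sub_cancel]
    · obtain ⟨y, hy⟩ := exists_tateMap_eq (l := l) (q (M n)) (v (M n)) (2 * M n) (hqv _) (hvq _) w
        ((hker _ _).2 ((hKmem _ _).2 ⟨w, hw, rfl⟩))
      refine ⟨AbDual.tateMapₗ (l := l) (T := SGA7.pt (K := k) Ω) (v m₀)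
        (AbDual.tateMapₗ (l := l) (T := SGA7.pt (K := k) Ω) (α n).inv y), ?_⟩
      rw [← hy, tateMapₗ_comp, tateMapₗ_comp, ← tateMapₗ_comp (v m₀) (q m₀), tateMapₗ_pow_id (v m₀ ≫ q m₀) _ (hvq m₀),
        map_smul, map_smul, ← tateMapₗ_comp (α n).inv (α n).hom, Nat.cast_pow]
      congr 2
      exact AbDual.TateMod.ext fun _ => congrArg Additive.ofMul (by rw [Iso.inv_hom_id, Category.comp_id]; rfl)
  choose g hgS hg1 hg2 using key
  haveI : Module.Finite ℤ_[l] (endSpan (Ω := Ω) l X) := Module.IsNoetherian.finite _ _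
  obtain ⟨⟨G, hG⟩, hcl⟩ := exists_cluster (l := l) (fun n => (⟨g n, hgS n⟩ : endSpan (Ω := Ω) l X))
  refine ⟨G, hG, ?_, 2 * m₀, fun w hw => ?_⟩
  · rintro _ ⟨t, rfl⟩
    refine mem_of_forall_mem_sup L _ fun n => ?_
    obtain ⟨i, hi, ⟨D, hD⟩, e⟩ := hcl n
    obtain ⟨w, hw, z, hz⟩ := hg1 i t
    refine ⟨w, hw, ((l : ℤ_[l]) ^ (i - n)) • z - D t, ?_⟩
    have e' : g i = G + ((l : ℤ_[l]) ^ n) • D := congrArg Subtype.val e
    rw [smul_sub, smul_smul, ← pow_add, Nat.add_sub_cancel' hi, ← add_sub_assoc, ← hz, e', LinearMap.add_apply,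
      LinearMap.smul_apply, add_sub_cancel_right]
  · refine mem_of_forall_mem_sup (LinearMap.range G) _ fun n => ?_
    obtain ⟨i, hi, ⟨D, hD⟩, e⟩ := hcl n
    obtain ⟨t, ht⟩ := hg2 i w hw
    have e' : g i = G + ((l : ℤ_[l]) ^ n) • D := congrArg Subtype.val e
    refine ⟨G t, ⟨t, rfl⟩, D t, ?_⟩
    rw [← ht, e', LinearMap.add_apply, LinearMap.smul_apply]

/-- Galois stable sublattices agree up to bounded index with the image of a limit of endomorphisms. -/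
theorem exists_end_of_lattice (hl : (l : k) ≠ 0) (X : Over (Spec (CommRingCat.of k)))
    [GrpObj X] [IsCommMonObj X] [IsProper X.hom] [GeometricallyIntegral X.hom] (hFin : FinIsog l X)
    [Module.Free ℤ_[l] (AbDual.TateMod X l (SGA7.pt (K := k) Ω))]
    [Module.Finite ℤ_[l] (AbDual.TateMod X l (SGA7.pt (K := k) Ω))]
    (L : Submodule ℤ_[l] (AbDual.TateMod X l (SGA7.pt (K := k) Ω)))
    (hL : ∀ (τ : Ω ≃ₐ[k] Ω), ∀ z ∈ L, ∀ m, ∃ w ∈ L,
      (AbDual.TateMod.component X l (SGA7.pt (K := k) Ω) m w).toMul =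
        SGA7.galAct τ (AbDual.TateMod.component X l (SGA7.pt (K := k) Ω) m z).toMul) :
    ∃ g ∈ endSpan (Ω := Ω) l X, LinearMap.range g ≤ L ∧
      ∃ c : ℕ, ∀ w ∈ L, ((l : ℤ_[l]) ^ c) • w ∈ LinearMap.range g :=
  exists_end_of_lattice' hl X L hL (by
    obtain ⟨J, hJ, F, hF⟩ := hFin
    exact ⟨J, hJ, F, fun Y _ _ _ _ u _ v _ m _ h1 h2 _ => hF Y u v m h1 h2⟩)

/-- The lattice of a subspace. -/
abbrev latticeOf {X : Over (Spec (CommRingCat.of k))} [GrpObj X] [IsCommMonObj X]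
    (W : Submodule ℚ_[l] (ℚ_[l] ⊗[ℤ_[l]] AbDual.TateMod X l (SGA7.pt (K := k) Ω))) :
    Submodule ℤ_[l] (AbDual.TateMod X l (SGA7.pt (K := k) Ω)) :=
  (W.restrictScalars ℤ_[l]).comap (TensorProduct.mk ℤ_[l] ℚ_[l] (AbDual.TateMod X l (SGA7.pt (K := k) Ω)) 1)

/-- Subspaces with stable lattices and finitely many quotients are images of elements of `ℚ_l ⊗ End`. -/
theorem exists_end_of_subspace' (hl : (l : k) ≠ 0) (X : Over (Spec (CommRingCat.of k)))
    [GrpObj X] [IsCommMonObj X] [IsProper X.hom] [GeometricallyIntegral X.hom]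
    [Module.Free ℤ_[l] (AbDual.TateMod X l (SGA7.pt (K := k) Ω))]
    [Module.Finite ℤ_[l] (AbDual.TateMod X l (SGA7.pt (K := k) Ω))]
    (W : Submodule ℚ_[l] (ℚ_[l] ⊗[ℤ_[l]] AbDual.TateMod X l (SGA7.pt (K := k) Ω)))
    (hW : ∀ (τ : Ω ≃ₐ[k] Ω), ∀ z ∈ latticeOf W, ∀ m, ∃ w ∈ latticeOf W,
      (AbDual.TateMod.component X l (SGA7.pt (K := k) Ω) m w).toMul =
        SGA7.galAct τ (AbDual.TateMod.component X l (SGA7.pt (K := k) Ω) m z).toMul)
    (hFin : FinQuot l X (latticeOf W)) :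
    ∃ u ∈ Submodule.span ℚ_[l] {ψ : Module.End ℚ_[l] (ℚ_[l] ⊗[ℤ_[l]] AbDual.TateMod X l (SGA7.pt (K := k) Ω)) |
          ∃ (f : X ⟶ X) (_ : IsMonHom f), ψ = (AbDual.tateMapₗ (l := l) (T := SGA7.pt (K := k) Ω) f).baseChange ℚ_[l]},
      LinearMap.range u = W := by
  let ι₁ := TensorProduct.mk ℤ_[l] ℚ_[l] (AbDual.TateMod X l (SGA7.pt (K := k) Ω)) 1
  obtain ⟨g, hg, hle, c, hc⟩ := exists_end_of_lattice' hl X (latticeOf W) hW hFin
  refine ⟨g.baseChange ℚ_[l], ?_, le_antisymm ?_ fun x hx => ?_⟩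
  · refine Submodule.span_induction (p := fun g _ => g.baseChange ℚ_[l] ∈ Submodule.span ℚ_[l]
      {ψ : Module.End ℚ_[l] (ℚ_[l] ⊗[ℤ_[l]] AbDual.TateMod X l (SGA7.pt (K := k) Ω)) |
          ∃ (f : X ⟶ X) (_ : IsMonHom f), ψ = (AbDual.tateMapₗ (l := l) (T := SGA7.pt (K := k) Ω) f).baseChange ℚ_[l]})
      ?_ ?_ ?_ ?_ hg
    · rintro _ ⟨f, hf, rfl⟩
      exact Submodule.subset_span ⟨f, hf, rfl⟩
    · rw [LinearMap.baseChange_zero]; exact Submodule.zero_mem _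
    · intro a b _ _ ha hb
      rw [LinearMap.baseChange_add]; exact Submodule.add_mem _ ha hb
    · intro r a _ ha
      rw [LinearMap.baseChange_smul]
      exact Submodule.smul_of_tower_mem _ r ha
  · rintro _ ⟨x, rfl⟩
    induction x using TensorProduct.induction_on with
    | zero => rw [map_zero]; exact W.zero_mem
    | tmul a z =>
      rw [LinearMap.baseChange_tmul, ← _root_.mul_one a, ← smul_eq_mul, ← TensorProduct.smul_tmul']
      exact W.smul_mem a (hle ⟨z, rfl⟩)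
    | add a b ha hb => rw [map_add]; exact W.add_mem ha hb
  · obtain ⟨d, z, hz⟩ : ∃ (d : ℕ) (z : AbDual.TateMod X l (SGA7.pt (K := k) Ω)), ((l : ℚ_[l]) ^ d) • x = ι₁ z := by
      clear hx
      induction x using TensorProduct.induction_on with
      | zero => exact ⟨0, 0, by rw [smul_zero, map_zero]⟩
      | tmul a z =>
        obtain ⟨d, hd⟩ : ∃ d : ℕ, ‖((l : ℚ_[l]) ^ d) * a‖ ≤ 1 := by
          obtain ⟨d, hd⟩ := exists_nat_ge ‖a‖
          refine ⟨d, ?_⟩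
          have hl1 : (1 : ℝ) < l := by exact_mod_cast (Fact.out : l.Prime).one_lt
          rw [norm_mul, norm_pow, Padic.norm_p, inv_pow, inv_mul_le_iff₀ (by positivity), _root_.mul_one]
          refine hd.trans ?_
          exact_mod_cast (Nat.lt_pow_self (Fact.out : l.Prime).one_lt).le
        let r : ℤ_[l] := ⟨_, hd⟩
        refine ⟨d, r • z, ?_⟩
        rw [map_smul]
        show _ = r • ((1 : ℚ_[l]) ⊗ₜ[ℤ_[l]] z)
        rw [TensorProduct.smul_tmul', TensorProduct.smul_tmul', smul_eq_mul, Algebra.smul_def, _root_.mul_one]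
        rfl
      | add a b ha hb =>
        obtain ⟨d₁, z₁, h₁⟩ := ha
        obtain ⟨d₂, z₂, h₂⟩ := hb
        refine ⟨d₁ + d₂, ((l : ℤ_[l]) ^ d₂) • z₁ + ((l : ℤ_[l]) ^ d₁) • z₂, ?_⟩
        rw [smul_add, map_add, map_smul, map_smul, ← h₁, ← h₂, ← algebraMap_smul ℚ_[l] ((l : ℤ_[l]) ^ d₂),
          ← algebraMap_smul ℚ_[l] ((l : ℤ_[l]) ^ d₁), map_pow, map_pow, map_natCast, smul_smul, smul_smul,
          ← pow_add, ← pow_add, add_comm d₂ d₁]
    have hzL : z ∈ latticeOf W := by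
      show ι₁ z ∈ W
      rw [← hz]; exact W.smul_mem _ hx
    obtain ⟨t, ht⟩ := hc z hzL
    refine ⟨(((l : ℚ_[l]) ^ (c + d))⁻¹) • ι₁ t, ?_⟩
    have hne : ((l : ℚ_[l]) ^ (c + d)) ≠ 0 := pow_ne_zero _ (Nat.cast_ne_zero.2 (Fact.out : l.Prime).ne_zero)
    rw [map_smul, inv_smul_eq_iff₀ hne]
    show (g.baseChange ℚ_[l]) ((1 : ℚ_[l]) ⊗ₜ[ℤ_[l]] t) = _
    rw [LinearMap.baseChange_tmul, ht, pow_add, ← smul_smul, hz]
    show ι₁ (((l : ℤ_[l]) ^ c) • z) = _
    rw [map_smul, ← algebraMap_smul ℚ_[l] ((l : ℤ_[l]) ^ c), map_pow, map_natCast]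

/-- Galois stable subspaces are images of elements of `ℚ_l ⊗ End`. -/
theorem exists_end_of_subspace (hl : (l : k) ≠ 0) (X : Over (Spec (CommRingCat.of k)))
    [GrpObj X] [IsCommMonObj X] [IsProper X.hom] [GeometricallyIntegral X.hom] (hFin : FinIsog l X)
    [Module.Free ℤ_[l] (AbDual.TateMod X l (SGA7.pt (K := k) Ω))]
    [Module.Finite ℤ_[l] (AbDual.TateMod X l (SGA7.pt (K := k) Ω))]
    (ρ : (Ω ≃ₐ[k] Ω) → Module.End ℤ_[l] (AbDual.TateMod X l (SGA7.pt (K := k) Ω)))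
    (hρ : ∀ (τ : Ω ≃ₐ[k] Ω) (z : AbDual.TateMod X l (SGA7.pt (K := k) Ω)) (m : ℕ),
      (AbDual.TateMod.component X l (SGA7.pt (K := k) Ω) m (ρ τ z)).toMul =
        SGA7.galAct τ (AbDual.TateMod.component X l (SGA7.pt (K := k) Ω) m z).toMul)
    (W : Submodule ℚ_[l] (ℚ_[l] ⊗[ℤ_[l]] AbDual.TateMod X l (SGA7.pt (K := k) Ω)))
    (hW : ∀ τ : Ω ≃ₐ[k] Ω, W.map ((ρ τ).baseChange ℚ_[l]) ≤ W) :
    ∃ u ∈ Submodule.span ℚ_[l] {ψ : Module.End ℚ_[l] (ℚ_[l] ⊗[ℤ_[l]] AbDual.TateMod X l (SGA7.pt (K := k) Ω)) |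
          ∃ (f : X ⟶ X) (_ : IsMonHom f), ψ = (AbDual.tateMapₗ (l := l) (T := SGA7.pt (K := k) Ω) f).baseChange ℚ_[l]},
      LinearMap.range u = W := by
  refine exists_end_of_subspace' hl X W (fun τ z hz m => ⟨ρ τ z, hW τ ⟨_, hz, rfl⟩, hρ τ z m⟩) ?_
  obtain ⟨J, hJ, F, hF⟩ := hFin
  exact ⟨J, hJ, F, fun Y _ _ _ _ u _ v _ m _ h1 h2 _ => hF Y u v m h1 h2⟩

end Tate

end Groth.Agent.AVQuot
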